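import Cfsg.Agent.S3755
import Cfsg.Agent.S2759
import Cfsg.Agent.ConjFunctor.Sections
import Cfsg.Agent.PLocal.Cores
import Cfsg.Agent.PLocal.PPrimeConstraint
import Cfsg.Agent.PLocal.PSolvable
import Cfsg.Agent.Coprime.ActionHom
import Cfsg.Agent.Solvable.Nilpotent

/-!
# Solvable groups without `S₄`-section acting on elementary abelian normal 2-subgroups

`ker2 V` is the preimage of `O₂(X / C(V))`.  When it is `C(V)` itself every elementary abelian
2-group `A` of automorphisms satisfies `|A|² ≤ |V : C_V(A)|`.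
-/

set_option autoImplicit false
set_option linter.style.haveILetI false
set_option linter.unusedSectionVars false

universe u

namespace CfsgLib.PrimitivePairTwo

open Subgroup
open scoped commutatorElement

/-- Solvable without a section isomorphic to the symmetric group of degree four. -/
def Free (X : Type*) [Group X] : Prop :=
  Group.IsSolvable X ∧ ¬ Cfsg.Involves (Equiv.Perm (Fin 4)) X

theorem Free.subgroup {X : Type u} [Group X] (h : Free X) (H : Subgroup X) : Free ↥H :=
  haveI := h.1
  ⟨inferInstance, fun hi => h.2 (ConjFunctor.involves_trans (ConjFunctor.involves_subgroup H) hi)⟩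

theorem Free.quotient {X : Type u} [Group X] (h : Free X) (N : Subgroup X) [N.Normal] : Free (X ⧸ N) :=
  haveI := h.1
  ⟨inferInstance, fun hi => h.2 (ConjFunctor.involves_trans (ConjFunctor.involves_quotient N) hi)⟩

theorem Free.equiv {X Y : Type u} [Group X] [Group Y] (h : Free X) (e : X ≃* Y) : Free Y :=
  haveI := h.1
  ⟨Group.isSolvable_of_surjective (f := e.toMonoidHom) e.surjective,
    fun hi => h.2 (ConjFunctor.involves_trans (ConjFunctor.involves_equiv e) hi)⟩

variable {X : Type u} [Group X] [Finite X]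

/-- The preimage of `O₂(X / C(V))`. -/
def ker2 (V : Subgroup X) [V.Normal] : Subgroup X :=
  (Cfsg.pCore 2 (X ⧸ centralizer (V : Set X))).comap (QuotientGroup.mk' (centralizer (V : Set X)))

instance ker2_normal (V : Subgroup X) [V.Normal] : (ker2 V).Normal := by
  unfold ker2; infer_instance

theorem centralizer_le_ker2 (V : Subgroup X) [V.Normal] : centralizer (V : Set X) ≤ ker2 V := by
  intro x hx
  rw [ker2, mem_comap, show QuotientGroup.mk' _ x = 1 from (QuotientGroup.eq_one_iff x).2 hx]
  exact one_mem _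

theorem ker2_pow {V : Subgroup X} [V.Normal] {x : X} (hx : x ∈ ker2 V) :
    ∃ n : ℕ, x ^ 2 ^ n ∈ centralizer (V : Set X) := by
  haveI : Fact (Nat.Prime 2) := ⟨Nat.prime_two⟩
  obtain ⟨n, hn⟩ := PLocal.isPGroup_pCore 2 (X ⧸ centralizer (V : Set X)) ⟨_, hx⟩
  refine ⟨n, (QuotientGroup.eq_one_iff _).1 ?_⟩
  rw [QuotientGroup.mk_pow]
  exact congrArg Subtype.val hn

theorem le_ker2 {V : Subgroup X} [V.Normal] {K : Subgroup X} [hK : K.Normal]
    (h : ∀ x ∈ K, ∃ n : ℕ, x ^ 2 ^ n ∈ centralizer (V : Set X)) : K ≤ ker2 V := by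
  haveI : (K.map (QuotientGroup.mk' (centralizer (V : Set X)))).Normal :=
    hK.map _ (QuotientGroup.mk'_surjective _)
  refine map_le_iff_le_comap.1 (PLocal.le_pCore ?_)
  rintro ⟨_, x, hx, rfl⟩
  obtain ⟨n, hn⟩ := h x hx
  refine ⟨n, Subtype.ext ?_⟩
  rw [SubgroupClass.coe_pow, ← map_pow, OneMemClass.coe_one]
  exact (QuotientGroup.eq_one_iff _).2 hn

theorem ker2_mono {V N : Subgroup X} [V.Normal] [N.Normal] (h : N ≤ V) : ker2 V ≤ ker2 N :=
  le_ker2 fun x hx => (ker2_pow hx).imp fun _ hn => centralizer_le (show (N : Set X) ⊆ V from h) hn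

/-- Elements with odd order in `ker2` centralize. -/
theorem mem_centralizer_of_odd {V : Subgroup X} [V.Normal] {x : X} (hx : x ∈ ker2 V)
    (ho : Odd (orderOf x)) : x ∈ centralizer (V : Set X) := by
  obtain ⟨n, hn⟩ := ker2_pow hx
  have hc : Nat.Coprime (orderOf x) (2 ^ n) := (Nat.coprime_two_right.2 ho).pow_right n
  obtain ⟨m, hm⟩ := exists_pow_eq_self_of_coprime hc.symm
  rw [← hm]
  exact pow_mem hn m

/-- A minimal normal subgroup is reduced. -/
theorem ker2_eq_of_minimal {V : Subgroup X} [V.Normal] (hV : IsPGroup 2 V)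
    (hmin : ∀ A : Subgroup X, A ≤ V → A.Normal → A ≠ ⊥ → A = V) :
    ker2 V = centralizer (V : Set X) := by
  refine le_antisymm ?_ (centralizer_le_ker2 V)
  rcases eq_or_ne V ⊥ with hV1 | hV1
  · subst hV1
    exact fun x _ v hv => by rw [mem_bot.1 hv, one_mul, mul_one]
  haveI : Fact (Nat.Prime 2) := ⟨Nat.prime_two⟩
  obtain ⟨P⟩ : Nonempty (Sylow 2 (ker2 V)) := inferInstance
  set P' := (P : Subgroup (ker2 V)).map (ker2 V).subtype
  haveI : Group.IsNilpotent ↥(P' ⊔ V) :=
    ((P.isPGroup'.map _).to_sup_of_normal_right hV).isNilpotent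
  haveI : (V.subgroupOf (P' ⊔ V)).Normal := inferInstance
  have hne : V.subgroupOf (P' ⊔ V) ≠ ⊥ := by
    rw [Ne, subgroupOf_eq_bot, disjoint_iff, inf_of_le_left le_sup_right]; exact hV1
  obtain ⟨w, hw, hw1⟩ := (bot_or_exists_ne_one _).resolve_left (Solvable.inf_center_ne_bot hne)
  have hwK : (w : X) ∈ V ⊓ centralizer (ker2 V : Set X) := by
    refine ⟨hw.1, fun k hk => ?_⟩
    -- `k` is a product of an element of the Sylow subgroup and one of the centralizer
    obtain ⟨q, hq, c, hc, rfl⟩ : ∃ q ∈ P', ∃ c ∈ centralizer (V : Set X), q * c = k := by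
      have hidx : ¬ 2 ∣ (P : Subgroup (ker2 V)).index := P.not_dvd_index
      set S := P' ⊔ centralizer (V : Set X)
      have hSK : S ≤ ker2 V := sup_le (map_subtype_le _) (centralizer_le_ker2 V)
      have hd1 : S.relIndex (ker2 V) ∣ P'.relIndex (ker2 V) :=
        relIndex_dvd_of_le_left _ le_sup_left
      have hd2 : S.relIndex (ker2 V) ∣ (centralizer (V : Set X)).relIndex (ker2 V) :=
        relIndex_dvd_of_le_left _ le_sup_right
      rw [show P'.relIndex (ker2 V) = (P : Subgroup (ker2 V)).index from congrArg Subgroup.index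
        (comap_map_eq_self_of_injective (ker2 V).subtype_injective _)] at hd1
      have hp : (centralizer (V : Set X)).relIndex (ker2 V) =
          Nat.card ((ker2 V).map (QuotientGroup.mk' (centralizer (V : Set X)))) := by
        rw [← relIndex_ker, QuotientGroup.ker_mk']
      rw [ker2, map_comap_eq_self_of_surjective (QuotientGroup.mk'_surjective _)] at hp
      obtain ⟨m, hm⟩ := IsPGroup.iff_card.1 (PLocal.isPGroup_pCore 2 (X ⧸ centralizer (V : Set X)))
      rw [hm] at hp
      obtain ⟨j, -, hj⟩ := (Nat.dvd_prime_pow Nat.prime_two).1 (hp ▸ hd2)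
      have hj0 : j = 0 := by
        by_contra h0
        exact hidx (((dvd_pow_self 2 h0).trans hj.symm.dvd).trans hd1)
      rw [hj0, pow_zero, relIndex_eq_one] at hj
      have := hj hk
      obtain ⟨q, hq, c, hc, h⟩ := Subgroup.mem_sup_of_normal_right.1 this
      exact ⟨q, hq, c, hc, h⟩
    have h1 : q * (w : X) = w * q := congrArg Subtype.val (mem_center_iff.1 hw.2 ⟨q, mem_sup_left hq⟩)
    have h2 : c * (w : X) = w * c := (hc w hw.1).symm
    exact ((show Commute q w from h1).mul_left h2).eq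
  have hF : V ⊓ centralizer (ker2 V : Set X) = V :=
    hmin _ inf_le_left (normal_inf_normal _ _) fun h => hw1 (Subtype.ext (mem_bot.1 (h ▸ hwK)))
  exact fun k hk v hv => ((hF.symm ▸ hv : v ∈ V ⊓ centralizer (ker2 V : Set X)).2 k hk).symm

/-- **No small offender**: `|A : C_A(V)|² ≤ |V : C_V(A)|` when `V` is reduced. -/
theorem square (hfree : Free X) (V : Subgroup X) [V.Normal] (hV : Cfsg.IsElementaryAbelian 2 V)
    (hred : ker2 V = centralizer (V : Set X)) (A : Subgroup X)
    (hsq : ∀ a ∈ A, a ^ 2 ∈ centralizer (V : Set X))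
    (hcom : ∀ a ∈ A, ∀ b ∈ A, ⁅a, b⁆ ∈ centralizer (V : Set X)) :
    (centralizer (V : Set X)).relIndex A ^ 2 ≤ (V ⊓ centralizer (A : Set X)).relIndex V := by
  classical
  haveI := hfree.1
  set C := centralizer (V : Set X) with hC
  let φ : X →* MulAut V := MulAut.conjNormal
  have hker : φ.ker = C := by
    ext x
    rw [MonoidHom.mem_ker, hC, mem_centralizer_iff]
    constructor
    · intro h v hv
      have h1 := congrArg (fun e : MulAut V => ((e ⟨v, hv⟩ : V) : X)) h
      simp only [φ, MulAut.conjNormal_apply, MulAut.one_apply] at h1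
      exact (mul_inv_eq_iff_eq_mul.1 h1).symm
    · intro h
      refine MulEquiv.ext fun v => Subtype.ext ?_
      show ((MulAut.conjNormal x v : V) : X) = v
      rw [MulAut.conjNormal_apply, ← h v v.2, mul_inv_cancel_right]
  let M := φ.range
  let Y := SemidirectProduct V M M.subtype
  haveI : Finite Y := Coprime.finite_semidirectProduct M.subtype
  let il : V →* Y := SemidirectProduct.inl
  let ir : M →* Y := SemidirectProduct.inr
  have hil : Function.Injective il := SemidirectProduct.inl_injective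
  have hir : Function.Injective ir := SemidirectProduct.inr_injective
  set V' := il.range
  set M' := ir.range
  let A' := (A.map φ.rangeRestrict).map ir
  have hV' : Cfsg.IsElementaryAbelian 2 V' := by
    haveI := hV.1
    refine ⟨⟨⟨?_⟩⟩, ?_⟩
    · rintro ⟨_, v, rfl⟩ ⟨_, w, rfl⟩
      exact Subtype.ext (by
        show il v * il w = il w * il v
        rw [← map_mul, ← map_mul, mul_comm' v w])
    · rintro _ ⟨v, rfl⟩
      rw [← map_pow, show v ^ 2 = 1 from Subtype.ext (hV.2 v v.2), map_one]
  have hfaith : M' ⊓ centralizer (V' : Set Y) = ⊥ := by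
    rw [eq_bot_iff]
    rintro _ ⟨⟨m, rfl⟩, hm⟩
    rw [mem_bot]
    have : m = 1 := Subtype.ext (MulEquiv.ext fun v => hil (by
      show il ((M.subtype m) v) = il v
      rw [show il ((M.subtype m) v) = ir m * il v * ir m⁻¹ from SemidirectProduct.inl_aut m v,
        ← hm (il v) ⟨v, rfl⟩, mul_assoc, ← map_mul, mul_inv_cancel, map_one, mul_one]))
    rw [this, map_one]
  let eM : M ≃* M' := MonoidHom.ofInjective hir
  let ec : X ⧸ C ≃* M := (QuotientGroup.quotientMulEquivOfEq hker.symm).trans
    (QuotientGroup.quotientKerEquivRange φ)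
  haveI : Group.IsSolvable M :=
    Group.isSolvable_of_surjective (f := ec.toMonoidHom) ec.surjective
  haveI hsM : Group.IsSolvable M' :=
    Group.isSolvable_of_surjective (f := eM.toMonoidHom) eM.surjective
  have hO : Cfsg.pCore 2 M' = ⊥ := by
    have h1 : Cfsg.pCore 2 (X ⧸ C) = ⊥ := by
      have h := congrArg (Subgroup.map (QuotientGroup.mk' C)) hred
      rw [ker2, map_comap_eq_self_of_surjective (QuotientGroup.mk'_surjective _)] at h
      rw [h, eq_bot_iff, map_le_iff_le_comap, MonoidHom.comap_bot, QuotientGroup.ker_mk']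
    rw [← PLocal.map_pCore_equiv (ec.trans eM), h1, Subgroup.map_bot]
  have hnoS3 : ¬ Cfsg.Involves (Equiv.Perm (Fin 3)) M' := by
    intro h
    haveI : Fact (Nat.Prime 2) := ⟨Nat.prime_two⟩
    refine hfree.2 (Cfsg.Agent.S2759.sufficiency V
      (fun v => ⟨1, Subtype.ext (by simpa using hV.2 v v.2)⟩) (ConjFunctor.involves_trans ?_ h))
    let f : ↥(normalizer (V : Set X)) →* M := φ.rangeRestrict.comp (normalizer (V : Set X)).subtype
    have hf : Function.Surjective f := fun z => by
      obtain ⟨g, hg⟩ := φ.rangeRestrict_surjective z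
      exact ⟨⟨g, normalizer_eq_top (H := V) ▸ mem_top g⟩, hg⟩
    have hk : f.ker = C.subgroupOf (normalizer (V : Set X)) := by
      rw [← hker, ← MonoidHom.ker_rangeRestrict φ]
      rfl
    exact ConjFunctor.involves_equiv (((QuotientGroup.quotientMulEquivOfEq hk.symm).trans
      (QuotientGroup.quotientKerEquivOfSurjective f hf)).trans eM)
  haveI : Fact (Nat.Prime 2) := ⟨Nat.prime_two⟩
  have hcon := PLocal.centralizer_pPrimeCore_le (p := 2) (G := M')
    PLocal.isPSolvable_of_isSolvable hO
  have hA' : Cfsg.IsElementaryAbelian 2 A' := by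
    refine ⟨⟨⟨?_⟩⟩, ?_⟩
    · rintro ⟨_, _, ⟨a, ha, rfl⟩, rfl⟩ ⟨_, _, ⟨b, hb, rfl⟩, rfl⟩
      refine Subtype.ext ?_
      show ir _ * ir _ = ir _ * ir _
      rw [← map_mul ir, ← map_mul ir]
      refine congrArg ir (commutatorElement_eq_one_iff_mul_comm.1 ?_)
      rw [← map_commutatorElement, ← MonoidHom.mem_ker, MonoidHom.ker_rangeRestrict, hker]
      exact hcom a ha b hb
    · rintro _ ⟨_, ⟨a, ha, rfl⟩, rfl⟩
      rw [← map_pow, ← map_pow, show φ.rangeRestrict (a ^ 2) = 1 from ?_, map_one]
      rw [← MonoidHom.mem_ker, MonoidHom.ker_rangeRestrict, hker]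
      exact hsq a ha
  have hb := Cfsg.Agent.S3755.bound M' V' hV' (Coprime.range_inr_le_normalizer_range_inl _) hfaith
    hcon hnoS3 _ A' rfl (by rintro _ ⟨a, -, rfl⟩; exact ⟨a, rfl⟩) hA'
  have h1 : Nat.card A' = C.relIndex A := by
    rw [Subgroup.card_map_of_injective hir, ← relIndex_ker, MonoidHom.ker_rangeRestrict, hker]
  have h2 : V' ⊓ centralizer (A' : Set Y) =
      ((V ⊓ centralizer (A : Set X)).subgroupOf V).map il := by
    ext y
    constructor
    · rintro ⟨⟨v, rfl⟩, hy⟩
      refine ⟨v, ⟨v.2, fun a ha => ?_⟩, rfl⟩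
      have h := hy (ir (φ.rangeRestrict a)) ⟨_, ⟨a, ha, rfl⟩, rfl⟩
      have h3 : il ((φ a) v) = il v := by
        rw [show il ((φ a) v) = ir (φ.rangeRestrict a) * il v * ir (φ.rangeRestrict a)⁻¹ from
          SemidirectProduct.inl_aut (φ.rangeRestrict a) v, h, mul_assoc, ← map_mul, mul_inv_cancel,
          map_one, mul_one]
      have h4 := congrArg Subtype.val (hil h3)
      rw [MulAut.conjNormal_apply] at h4
      exact mul_inv_eq_iff_eq_mul.1 h4
    · rintro ⟨v, hv, rfl⟩
      refine ⟨⟨v, rfl⟩, ?_⟩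
      rintro _ ⟨_, ⟨a, ha, rfl⟩, rfl⟩
      have h4 : (φ a) v = v := Subtype.ext (by
        rw [MulAut.conjNormal_apply]
        exact mul_inv_eq_iff_eq_mul.2 (hv.2 a ha))
      have := SemidirectProduct.inl_aut (φ := M.subtype) (φ.rangeRestrict a) v
      rw [show (M.subtype (φ.rangeRestrict a)) v = v from h4, map_inv, eq_mul_inv_iff_mul_eq] at this
      exact this.symm
  rw [h1, h2, show V' = (⊤ : Subgroup V).map il from MonoidHom.range_eq_map il,
    relIndex_map_map_of_injective _ _ hil, relIndex_top_right] at hb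
  exact hb

end CfsgLib.PrimitivePairTwo
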