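import Cfsg.Agent.PrimitivePairTwo.Basic

/-!
# Two quadratic elementary abelian subgroups generating the group

If two quadratic elementary abelian 2-subgroups `W`, `W'` generate `X` modulo `C(V)`, then
`(|W : W ∩ ker2 V| · |W' : W' ∩ ker2 V|)² ≤ |V|`.
-/

set_option autoImplicit false
set_option linter.style.haveILetI false
set_option linter.unusedSectionVars false

universe u

namespace CfsgLib.PrimitivePairTwo

open Subgroup
open scoped commutatorElement

variable {X : Type u} [Group X] [Finite X]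

instance map_mk_normal (V N : Subgroup X) [N.Normal] [hV : V.Normal] :
    (V.map (QuotientGroup.mk' N)).Normal :=
  hV.map _ (QuotientGroup.mk'_surjective N)

/-- The preimage of `ker2` of the section `V / N`. -/
abbrev secKer (V N : Subgroup X) [V.Normal] [N.Normal] : Subgroup X :=
  (ker2 (V.map (QuotientGroup.mk' N))).comap (QuotientGroup.mk' N)

theorem pow_two_mono {Y : Type*} [Group Y] {K : Subgroup Y} {y : Y} {a : ℕ} (ha : y ^ 2 ^ a ∈ K)
    {b : ℕ} (h : a ≤ b) : y ^ 2 ^ b ∈ K := by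
  obtain ⟨d, hd⟩ := Nat.exists_eq_add_of_le h
  subst hd
  have e : y ^ 2 ^ (a + d) = (y ^ 2 ^ a) ^ 2 ^ d := (congrArg (y ^ ·) (pow_add 2 a d)).trans (pow_mul y _ _)
  exact e.symm ▸ pow_mem ha _

theorem ker2_series {V N : Subgroup X} [V.Normal] [N.Normal] (hNV : N ≤ V)
    (hel : Cfsg.IsElementaryAbelian 2 V) : ker2 N ⊓ secKer V N ≤ ker2 V := by
  refine le_ker2 fun x hx => ?_
  obtain ⟨n, hn⟩ := ker2_pow hx.1
  obtain ⟨m, hm⟩ := ker2_pow (show QuotientGroup.mk' N x ∈ ker2 (V.map (QuotientGroup.mk' N)) from hx.2)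
  refine ⟨max n m + 1, ?_⟩
  have hy1 : x ^ 2 ^ max n m ∈ centralizer (N : Set X) := pow_two_mono hn (le_max_left n m)
  have hy2 : QuotientGroup.mk' N (x ^ 2 ^ max n m) ∈
      centralizer (V.map (QuotientGroup.mk' N) : Set (X ⧸ N)) :=
    (map_pow (QuotientGroup.mk' N) x _).symm ▸ pow_two_mono hm (le_max_right n m)
  rw [pow_succ, pow_mul, sq]
  set y := x ^ 2 ^ max n m
  intro v hv
  have he : ⁅y, v⁆ ∈ N := by
    rw [← QuotientGroup.eq_one_iff]
    show QuotientGroup.mk' N ⁅y, v⁆ = 1
    rw [map_commutatorElement, commutatorElement_eq_one_iff_mul_comm]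
    exact (hy2 _ (mem_map_of_mem _ hv)).symm
  have h1 : y * v * y⁻¹ = ⁅y, v⁆ * v := by rw [commutatorElement_def]; group
  have h2 : y * ⁅y, v⁆ * y⁻¹ = ⁅y, v⁆ := by rw [← hy1 _ he, mul_inv_cancel_right]
  have h3 : ⁅y, v⁆ * ⁅y, v⁆ = 1 := by rw [← sq]; exact hel.2 _ (hNV he)
  have h4 : y * y * v * (y * y)⁻¹ = v := by
    calc y * y * v * (y * y)⁻¹ = y * (y * v * y⁻¹) * y⁻¹ := by group
      _ = (y * ⁅y, v⁆ * y⁻¹) * (y * v * y⁻¹) := by rw [h1]; group
      _ = v := by rw [h2, h1, ← mul_assoc, h3, one_mul]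
  exact (mul_inv_eq_iff_eq_mul.1 h4).symm

/-- Two quadratic elementary abelian subgroups generating the group modulo `C(V)`. -/
structure Config (V W W' : Subgroup X) : Prop where
  vel : Cfsg.IsElementaryAbelian 2 V
  wel : Cfsg.IsElementaryAbelian 2 W
  wel' : Cfsg.IsElementaryAbelian 2 W'
  gen : W ⊔ W' ⊔ centralizer (V : Set X) = ⊤
  quad : ∀ v ∈ V, ∀ w ∈ W, ∀ u ∈ W, Commute ⁅v, w⁆ u
  quad' : ∀ v ∈ V, ∀ w ∈ W', ∀ u ∈ W', Commute ⁅v, w⁆ u

/-- The size of `W` and `W'` seen on `V`. -/
noncomputable def rr (V W W' : Subgroup X) [V.Normal] : ℕ :=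
  ((ker2 V).relIndex W * (ker2 V).relIndex W') ^ 2

theorem Config.symm {V W W' : Subgroup X} (h : Config V W W') : Config V W' W :=
  ⟨h.vel, h.wel', h.wel, by rw [sup_comm W' W]; exact h.gen, h.quad', h.quad⟩

theorem Config.sub {V W W' N : Subgroup X} (h : Config V W W') (hN : N ≤ V) : Config N W W' :=
  ⟨⟨⟨⟨fun a b => Subtype.ext (congrArg Subtype.val
      (h.vel.1.is_comm.comm ⟨a, hN a.2⟩ ⟨b, hN b.2⟩) :)⟩⟩, fun a ha => h.vel.2 a (hN ha)⟩,
    h.wel, h.wel', eq_top_iff.2 (h.gen.ge.trans (sup_le_sup_left (centralizer_le hN) _)),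
    fun v hv => h.quad v (hN hv), fun v hv => h.quad' v (hN hv)⟩

theorem isElementaryAbelian_map {Y : Type u} [Group Y] (f : X →* Y) {A : Subgroup X}
    (hA : Cfsg.IsElementaryAbelian 2 A) : Cfsg.IsElementaryAbelian 2 (A.map f) := by
  refine ⟨⟨⟨?_⟩⟩, ?_⟩
  · rintro ⟨_, u, hu, rfl⟩ ⟨_, v, hv, rfl⟩
    refine Subtype.ext ?_
    show f u * f v = f v * f u
    rw [← map_mul, ← map_mul]
    exact congrArg f (congrArg Subtype.val (hA.1.is_comm.comm ⟨u, hu⟩ ⟨v, hv⟩))
  · rintro _ ⟨u, hu, rfl⟩
    rw [← map_pow, hA.2 u hu, map_one]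

theorem Config.map {Y : Type u} [Group Y] {f : X →* Y} (hf : Function.Surjective f)
    {V W W' : Subgroup X} (h : Config V W W') : Config (V.map f) (W.map f) (W'.map f) := by
  have hq : ∀ U : Subgroup X, (∀ v ∈ V, ∀ w ∈ U, ∀ u ∈ U, Commute ⁅v, w⁆ u) →
      ∀ v ∈ V.map f, ∀ w ∈ U.map f, ∀ u ∈ U.map f, Commute ⁅v, w⁆ u := by
    rintro U hU _ ⟨v, hv, rfl⟩ _ ⟨w, hw, rfl⟩ _ ⟨u, hu, rfl⟩
    rw [← map_commutatorElement]
    exact (hU v hv w hw u hu).map f
  refine ⟨isElementaryAbelian_map f h.vel, isElementaryAbelian_map f h.wel,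
    isElementaryAbelian_map f h.wel', ?_, hq W h.quad, hq W' h.quad'⟩
  rw [eq_top_iff, ← map_top_of_surjective f hf, ← h.gen, Subgroup.map_sup, Subgroup.map_sup]
  refine sup_le_sup_left ?_ _
  rintro _ ⟨x, hx, rfl⟩ _ ⟨v, hv, rfl⟩
  rw [← map_mul, ← map_mul, hx v hv]

/-- A subgroup normalized by `W` and `W'` inside `V` is normal. -/
theorem Config.normal_of_le {V W W' N : Subgroup X} (h : Config V W W') (hN : N ≤ V)
    (h1 : W ≤ normalizer (N : Set X)) (h2 : W' ≤ normalizer (N : Set X)) : N.Normal := by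
  rw [← normalizer_eq_top_iff, eq_top_iff, ← h.gen]
  exact sup_le (sup_le h1 h2) ((centralizer_le (show (N : Set X) ⊆ V from hN)).trans
    (centralizer_le_normalizer _))

/-- A subgroup fixed by `W` and `W'` is fixed by everything. -/
theorem Config.commute_of {V W W' : Subgroup X} (h : Config V W W') {v : X} (hv : v ∈ V)
    (h1 : v ∈ centralizer (W : Set X)) (h2 : v ∈ centralizer (W' : Set X)) (x : X) : Commute v x := by
  have hle : (⊤ : Subgroup X) ≤ centralizer ({v} : Set X) := by
    rw [← h.gen]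
    exact sup_le (sup_le (fun w hw => mem_centralizer_singleton_iff.2 (h1 w hw))
      (fun w hw => mem_centralizer_singleton_iff.2 (h2 w hw)))
      (fun c hc => mem_centralizer_singleton_iff.2 (hc v hv).symm)
  exact (mem_centralizer_singleton_iff.1 (hle (mem_top x))).symm

/-- On an irreducible `V`, if `W` acts trivially then so does everything. -/
theorem Config.trivial_of_minimal {V W W' : Subgroup X} [V.Normal] (h : Config V W W')
    (hmin : ∀ A : Subgroup X, A ≤ V → A.Normal → A ≠ ⊥ → A = V)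
    (hW : W ≤ centralizer (V : Set X)) : centralizer (V : Set X) = ⊤ := by
  set F := V ⊓ centralizer (W' : Set X)
  have hF : F.Normal := h.normal_of_le inf_le_left
    (hW.trans ((centralizer_le (show (F : Set X) ⊆ V from inf_le_left)).trans
      (centralizer_le_normalizer _)))
    ((le_centralizer_iff.1 (inf_le_right : F ≤ centralizer (W' : Set X))).trans
      (centralizer_le_normalizer _))
  rcases eq_or_ne F ⊥ with hb | hb
  · rw [eq_top_iff, ← h.gen]
    refine sup_le (sup_le hW ?_) le_rfl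
    intro w hw v hv
    have hc : ⁅v, w⁆ ∈ F := by
      refine ⟨?_, fun u hu => ((h.quad' v hv w hw u hu).eq).symm⟩
      rw [commutatorElement_def, mul_assoc, mul_assoc, ← mul_assoc w]
      exact mul_mem hv ((inferInstance : V.Normal).conj_mem _ (inv_mem hv) w)
    rw [hb, mem_bot, commutatorElement_eq_one_iff_mul_comm] at hc
    exact hc
  · have hFV := hmin F inf_le_left hF hb
    rw [eq_top_iff, ← h.gen]
    refine sup_le (sup_le hW ?_) le_rfl
    intro w hw v hv
    exact ((hFV.ge hv).2 w hw).symm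

theorem rr_series {V W W' N : Subgroup X} [V.Normal] [N.Normal] (hNV : N ≤ V)
    (hel : Cfsg.IsElementaryAbelian 2 V) :
    rr V W W' ≤ rr N W W' * rr (V.map (QuotientGroup.mk' N)) (W.map (QuotientGroup.mk' N))
      (W'.map (QuotientGroup.mk' N)) := by
  have key : ∀ U : Subgroup X, (ker2 V).relIndex U ≤ (ker2 N).relIndex U *
      (ker2 (V.map (QuotientGroup.mk' N))).relIndex (U.map (QuotientGroup.mk' N)) := by
    intro U
    rw [← relIndex_comap]
    exact (relIndex_le_of_le_left (ker2_series hNV hel) index_ne_zero_of_finite).trans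
      relIndex_inf_le
  unfold rr
  rw [← mul_pow]
  refine Nat.pow_le_pow_left ?_ 2
  calc (ker2 V).relIndex W * (ker2 V).relIndex W' ≤ _ := Nat.mul_le_mul (key W) (key W')
    _ = _ := by ring

/-- **The bound.** -/
theorem bound : ∀ (n : ℕ) (X : Type u) [Group X] [Finite X], Free X → ∀ (V W W' : Subgroup X)
    [V.Normal], Nat.card V = n → Config V W W' → rr V W W' ≤ Nat.card V := by
  intro n
  induction n using Nat.strong_induction_on with
  | _ n ih =>
  intro X _ _ hfree V W W' _ hn hc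
  by_cases hred : ∃ N : Subgroup X, N.Normal ∧ N ≤ V ∧ N ≠ ⊥ ∧ N ≠ V
  · obtain ⟨N, hN, hNV, hN0, hNV'⟩ := hred
    have hlt : Nat.card N < n := hn ▸ lt_of_le_of_ne (card_le_of_le hNV) fun h =>
      hNV' (eq_of_le_of_card_ge hNV h.ge)
    have hq : Nat.card (V.map (QuotientGroup.mk' N)) * Nat.card N = Nat.card V := by
      rw [← relIndex_ker, QuotientGroup.ker_mk', mul_comm]
      exact PLocal.card_mul_relIndex hNV
    have hlt' : Nat.card (V.map (QuotientGroup.mk' N)) < n := by
      have h1 : 1 < Nat.card N := (one_lt_card_iff_ne_bot N).2 hN0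
      have h2 : 0 < Nat.card (V.map (QuotientGroup.mk' N)) := Nat.card_pos
      rw [← hn, ← hq]
      exact lt_mul_of_one_lt_right h2 h1
    calc rr V W W' ≤ _ := rr_series hNV hc.vel
      _ ≤ Nat.card N * Nat.card (V.map (QuotientGroup.mk' N)) :=
        Nat.mul_le_mul (ih _ hlt X hfree N W W' rfl (hc.sub hNV))
          (ih _ hlt' (X ⧸ N) (hfree.quotient N) _ _ _ rfl (hc.map (QuotientGroup.mk'_surjective N)))
      _ = Nat.card V := by rw [mul_comm, hq]
  · push Not at hred
    have hmin : ∀ A : Subgroup X, A ≤ V → A.Normal → A ≠ ⊥ → A = V := fun A hA hAn h0 =>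
      hred A hAn hA h0
    have hV2 : IsPGroup 2 V := fun v => ⟨1, Subtype.ext (by simpa using hc.vel.2 v v.2)⟩
    have hker := ker2_eq_of_minimal hV2 hmin
    have hpos : 1 ≤ Nat.card V := Nat.card_pos
    by_cases hWtriv : W ≤ centralizer (V : Set X) ∨ W' ≤ centralizer (V : Set X)
    · have htop : centralizer (V : Set X) = ⊤ := hWtriv.elim (hc.trivial_of_minimal hmin)
        (hc.symm.trivial_of_minimal hmin)
      have h1 : ∀ U : Subgroup X, (ker2 V).relIndex U = 1 := fun U =>
        relIndex_eq_one.2 (by rw [hker, htop]; exact le_top)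
      rw [rr, h1, h1]
      simpa using hpos
    push Not at hWtriv
    set C := V ⊓ centralizer (W : Set X) with hC
    set C' := V ⊓ centralizer (W' : Set X) with hC'
    set U := ⁅V, W⁆ with hU
    set U' := ⁅V, W'⁆ with hU'
    have hVn : ∀ K : Subgroup X, K ≤ normalizer (V : Set X) := fun K => by
      rw [normalizer_eq_top]; exact le_top
    have hUV : U ≤ V := Coprime.commutator_le_of_le_normalizer (hVn W)
    have hU'V : U' ≤ V := Coprime.commutator_le_of_le_normalizer (hVn W')
    have hUC : U ≤ C := le_inf hUV (commutator_le.2 fun v hv w hw u hu => (hc.quad v hv w hw u hu).eq.symm)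
    have hU'C : U' ≤ C' :=
      le_inf hU'V (commutator_le.2 fun v hv w hw u hu => (hc.quad' v hv w hw u hu).eq.symm)
    have hnorm : ∀ W W' : Subgroup X, ⁅V, W'⁆ ≤ V →
        W ≤ normalizer ((⁅V, W⁆ ⊔ ⁅V, W'⁆ : Subgroup X) : Set X) := by
      intro W W' hle
      rw [le_normalizer_iff_commutator_le_left]
      refine le_trans ?_ (le_sup_left : ⁅V, W⁆ ≤ ⁅V, W⁆ ⊔ ⁅V, W'⁆)
      exact commutator_mono (sup_le (Coprime.commutator_le_of_le_normalizer (hVn W)) hle) le_rfl
    have hUUn : (U ⊔ U').Normal := hc.normal_of_le (sup_le hUV hU'V) (hnorm W W' hU'V)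
      (by rw [sup_comm]; exact hnorm W' W hUV)
    have hUU : U ⊔ U' = V := by
      refine hmin _ (sup_le hUV hU'V) hUUn fun h => hWtriv.1 ?_
      rw [sup_eq_bot_iff] at h
      rw [← commutator_eq_bot_iff_le_centralizer, commutator_comm]
      exact h.1
    have hsup : C ⊔ C' = V :=
      le_antisymm (sup_le inf_le_left inf_le_left) (hUU.ge.trans (sup_le_sup hUC hU'C))
    have hCC : C ⊓ C' = ⊥ := by
      by_contra h
      have hn' : (C ⊓ C').Normal := by
        refine ⟨fun v hv x => ?_⟩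
        rw [← (hc.commute_of hv.1.1 hv.1.2 hv.2.2 x).eq, mul_inv_cancel_right]
        exact hv
      exact hWtriv.1 fun w hw v hv =>
        (((hmin _ (inf_le_left.trans inf_le_left) hn' h).ge hv).1.2 w hw).symm
    have hVab : ∀ a ∈ V, ∀ b ∈ V, a * b = b * a := fun a ha b hb =>
      congrArg Subtype.val (hc.vel.1.is_comm.comm ⟨a, ha⟩ ⟨b, hb⟩)
    have hcard : Nat.card V = Nat.card C * Nat.card C' := by
      rw [← hsup]
      refine Coprime.card_sup_eq ?_ hCC
      exact fun a ha => centralizer_le_normalizer _ fun b hb => hVab b hb.1 a ha.1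
    have hCidx : Nat.card C * C.relIndex V = Nat.card V := PLocal.card_mul_relIndex inf_le_left
    have hC'idx : Nat.card C' * C'.relIndex V = Nat.card V := PLocal.card_mul_relIndex inf_le_left
    have hc1 : C.relIndex V = Nat.card C' := by
      rw [hcard] at hCidx; exact Nat.eq_of_mul_eq_mul_left Nat.card_pos hCidx
    have hc2 : C'.relIndex V = Nat.card C := by
      rw [hcard, mul_comm (Nat.card C) (Nat.card C')] at hC'idx
      exact Nat.eq_of_mul_eq_mul_left Nat.card_pos hC'idx
    have hsqW : ∀ A : Subgroup X, Cfsg.IsElementaryAbelian 2 A →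
        (ker2 V).relIndex A ^ 2 ≤ (V ⊓ centralizer (A : Set X)).relIndex V := by
      intro A hA
      rw [hker]
      refine square hfree V hc.vel hker A (fun a ha => by rw [hA.2 a ha]; exact one_mem _)
        fun a ha b hb => ?_
      rw [show ⁅a, b⁆ = 1 from commutatorElement_eq_one_iff_mul_comm.2
        (congrArg Subtype.val (hA.1.is_comm.comm ⟨a, ha⟩ ⟨b, hb⟩))]
      exact one_mem _
    rw [rr, mul_pow, hcard, mul_comm (Nat.card C)]
    exact Nat.mul_le_mul ((hsqW W hc.wel).trans hc1.le) ((hsqW W' hc.wel').trans hc2.le)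

/-- The bound for a section `V / N`. -/
theorem bound_section (hfree : Free X) {V W W' : Subgroup X} [V.Normal] (hc : Config V W W')
    (N : Subgroup X) [N.Normal] :
    ((secKer V N).relIndex W * (secKer V N).relIndex W') ^ 2 ≤ N.relIndex V := by
  have h := bound _ (X ⧸ N) (hfree.quotient N) _ _ _ rfl (hc.map (QuotientGroup.mk'_surjective N))
  unfold rr at h
  rw [← relIndex_comap, ← relIndex_comap, ← relIndex_ker, QuotientGroup.ker_mk'] at h
  exact h

theorem rr_le_section (hfree : Free X) {V W W' N : Subgroup X} [V.Normal] [N.Normal] (hNV : N ≤ V)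
    (hc : Config V W W') : rr V W W' ≤ rr N W W' * N.relIndex V := by
  refine (rr_series hNV hc.vel).trans (Nat.mul_le_mul_left _ ?_)
  refine (bound _ (X ⧸ N) (hfree.quotient N) _ _ _ rfl (hc.map (QuotientGroup.mk'_surjective N))).trans
    (le_of_eq ?_)
  rw [← relIndex_ker, QuotientGroup.ker_mk']

/-- A trivial section only makes the bound stronger. -/
theorem rr_le_of_trivial_section (hfree : Free X) {V W W' N M : Subgroup X} [V.Normal] [N.Normal]
    [M.Normal] (hNM : N ≤ M) (hMV : M ≤ V) (hc : Config V W W')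
    (htriv : ∀ v ∈ M, ∀ x : X, ⁅v, x⁆ ∈ N) : rr V W W' ≤ Nat.card N * M.relIndex V := by
  refine (rr_le_section hfree hMV hc).trans (Nat.mul_le_mul_right _ ?_)
  refine le_trans ?_ (bound _ X hfree N W W' rfl (hc.sub (hNM.trans hMV)))
  have hle : ker2 N ≤ ker2 M := by
    refine le_trans ?_ (ker2_series hNM (hc.sub hMV).vel)
    refine le_inf le_rfl fun x _ => mem_comap.2 (centralizer_le_ker2 (M.map (QuotientGroup.mk' N)) ?_)
    rintro _ ⟨v, hv, rfl⟩
    rw [← commutatorElement_eq_one_iff_mul_comm, ← map_commutatorElement]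
    exact (QuotientGroup.eq_one_iff _).2 (htriv v hv x)
  unfold rr
  exact Nat.pow_le_pow_left (Nat.mul_le_mul
    (relIndex_le_of_le_left hle index_ne_zero_of_finite)
    (relIndex_le_of_le_left hle index_ne_zero_of_finite)) 2

/-- The fixed points may be factored out. -/
theorem rr_le_fixed (hfree : Free X) {V W W' E : Subgroup X} [V.Normal] [E.Normal] (hEV : E ≤ V)
    (hc : Config V W W') (hE : ∀ v ∈ E, ∀ x : X, Commute v x) : rr V W W' ≤ E.relIndex V := by
  have h := rr_le_of_trivial_section hfree (N := ⊥) (M := E) bot_le hEV hc fun v hv x =>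
    mem_bot.2 (commutatorElement_eq_one_iff_mul_comm.2 (hE v hv x).eq)
  rwa [Subgroup.card_bot, one_mul] at h

end CfsgLib.PrimitivePairTwo
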