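import Cfsg.Agent.PrimitivePairTwo.Pairing
import Cfsg.Agent.Solvable.Hall
import Cfsg.Agent.Coprime.Action
import Cfsg.Agent.Coprime.Abelian
import Cfsg.Agent.PLocal.CommutatorFacts
import Cfsg.Agent.HallHigman.MinimalAction

/-!
# The equality case is impossible

`X` is generated modulo `C(V)` by two quadratic elementary abelian groups `W`, `W'`, the bound of
`Bound.lean` is attained on `V / C_V(X)`, and `W ∩ ker2 V` has the same fixed points as `W`.  Then a
normal 2-subgroup on whose subgroups no small offender exists cannot contain `W ∩ ker2 V`.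
-/

set_option autoImplicit false
set_option linter.style.haveILetI false
set_option linter.unusedSectionVars false

universe u

namespace CfsgLib.PrimitivePairTwo

open Subgroup
open scoped commutatorElement

variable {X : Type u} [Group X] [Finite X]

/-- No small offender among the subgroups of `N`. -/
def SQ (N V : Subgroup X) : Prop :=
  ∀ A : Subgroup X, A ≤ N → (∀ a ∈ A, a ^ 2 ∈ centralizer (V : Set X)) →
    (∀ a ∈ A, ∀ b ∈ A, ⁅a, b⁆ ∈ centralizer (V : Set X)) →
      (centralizer (V : Set X)).relIndex A ^ 2 ≤ (V ⊓ centralizer (A : Set X)).relIndex V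

theorem exists_odd_supplement [Group.IsSolvable X] (P K : Subgroup X) [K.Normal] (hKP : K ≤ P)
    (hodd : ∀ x ∈ P, ∃ m : ℕ, Odd m ∧ x ^ m ∈ K) :
    ∃ R : Subgroup X, R ≤ P ∧ Odd (Nat.card R) ∧ R ⊔ K = P := by
  obtain ⟨H, hH⟩ := Solvable.exists_isPiHall ({q | q ≠ 2}) P
  refine ⟨H.map P.subtype, map_subtype_le _, ?_, ?_⟩
  · rw [Subgroup.card_map_of_injective P.subtype_injective]
    exact Nat.odd_iff.2 (Nat.two_dvd_ne_zero.1 fun h => hH.1 2 Nat.prime_two h rfl)
  · refine le_antisymm (sup_le (map_subtype_le _) hKP) (relIndex_eq_one.1 ?_)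
    set S := H.map P.subtype ⊔ K
    by_contra h1
    obtain ⟨q, hq, hqd⟩ := Nat.exists_prime_and_dvd h1
    have hd1 : S.relIndex P ∣ H.index := by
      refine (relIndex_dvd_of_le_left P (le_sup_left : H.map P.subtype ≤ S)).trans ?_
      rw [relIndex, subgroupOf, comap_map_eq_self_of_injective P.subtype_injective]
    have hq2 : q = 2 := by
      by_contra h
      exact hH.2 q hq h (hqd.trans hd1)
    subst hq2
    haveI : Fact (Nat.Prime 2) := ⟨Nat.prime_two⟩
    have hd2 : 2 ∣ Nat.card (P.map (QuotientGroup.mk' K)) := by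
      rw [← relIndex_ker, QuotientGroup.ker_mk']
      exact hqd.trans (relIndex_dvd_of_le_left P (le_sup_right : K ≤ S))
    obtain ⟨⟨_, x, hx, rfl⟩, hord⟩ := exists_prime_orderOf_dvd_card' 2 hd2
    obtain ⟨m, hm, hxm⟩ := hodd x hx
    have h3 : orderOf (⟨QuotientGroup.mk' K x, mem_map_of_mem _ hx⟩ : P.map (QuotientGroup.mk' K)) ∣ m :=
      orderOf_dvd_of_pow_eq_one (Subtype.ext (by
        show QuotientGroup.mk' K x ^ m = 1
        rw [← map_pow]
        exact (QuotientGroup.eq_one_iff _).2 hxm))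
    rw [hord] at h3
    exact (Nat.not_even_iff_odd.2 hm) (even_iff_two_dvd.2 h3)

set_option maxHeartbeats 1000000 in
/-- **The equality case.** -/
theorem core_false (hfree : Free X) {V W W' N : Subgroup X} [V.Normal] [N.Normal]
    (hc : Config V W W') (hN : IsPGroup 2 N) (hSQ : SQ N V) (hW0 : W ⊓ ker2 V ≤ N)
    (hfix : V ⊓ centralizer ((W ⊓ ker2 V : Subgroup X) : Set X) ≤ centralizer (W : Set X))
    (hP : ∃ P : Subgroup X, P.Normal ∧ W' ≤ P ⊔ W ∧ ∀ x ∈ P, ∃ m : ℕ, Odd m ∧ x ^ m ∈ ker2 V)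
    (hsmall : (V ⊓ centralizer (W : Set X) ⊓ centralizer (W' : Set X)).relIndex V ≤ rr V W W')
    (ha : 1 < (ker2 V).relIndex W) : False := by
  classical
  haveI := hfree.1
  set E := V ⊓ centralizer (W : Set X) ⊓ centralizer (W' : Set X) with hEdef
  have hEV : E ≤ V := inf_le_left.trans inf_le_left
  have hEc : ∀ e ∈ E, ∀ x : X, Commute e x := fun e he x => hc.commute_of he.1.1 he.1.2 he.2 x
  haveI : E.Normal := ⟨fun e he x => by rw [← (hEc e he x).eq, mul_inv_cancel_right]; exact he⟩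
  have hV2 : IsPGroup 2 V := fun v => ⟨1, Subtype.ext (by simpa using hc.vel.2 v v.2)⟩
  have hVab : ∀ a ∈ V, ∀ b ∈ V, a * b = b * a := fun a ha b hb =>
    congrArg Subtype.val (hc.vel.1.is_comm.comm ⟨a, ha⟩ ⟨b, hb⟩)
  -- `E` is proper
  have hne : ¬ V ≤ E := fun h => by
    have h1 : W ≤ centralizer (V : Set X) := le_centralizer_iff.1 (h.trans (inf_le_left.trans inf_le_right))
    rw [relIndex_eq_one.2 (h1.trans (centralizer_le_ker2 V))] at ha
    exact absurd ha (lt_irrefl 1)
  obtain ⟨V₁, ⟨hV₁n, hEV₁, hV₁V⟩, hV₁min⟩ := (Set.toFinite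
    {A : Subgroup X | A.Normal ∧ E < A ∧ A ≤ V}).exists_minimalFor id _
      ⟨V, inferInstance, lt_of_le_not_ge hEV hne, le_rfl⟩
  haveI := hV₁n
  have hmin : ∀ A : Subgroup X, A.Normal → E ≤ A → A ≤ V₁ → A = E ∨ A = V₁ := fun A hA h1 h2 => by
    rcases eq_or_lt_of_le h1 with h | h
    · exact Or.inl h.symm
    · exact Or.inr (le_antisymm h2 (hV₁min ⟨hA, h, h2.trans hV₁V⟩ h2))
  have hV₁2 : IsPGroup 2 V₁ := hV2.to_le hV₁V
  set KY := secC V₁ E with hKYdef
  set KQ := secKer V V₁ with hKQdef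
  have hredY : secKer V₁ E = secC V₁ E := secKer_eq_of_minimal hV₁2 hEV₁.le hmin
  haveI hKYn : KY.Normal := by rw [hKYdef]; infer_instance
  have hK2Y : ker2 V ≤ KY := (ker2_le_secKer hV₁V).trans hredY.le
  have hK2Q : ker2 V ≤ KQ := ker2_le_secKer le_rfl
  have hKYQ : KY ⊓ KQ ≤ ker2 V := by
    refine le_trans (le_inf ?_ inf_le_right) (ker2_series hV₁V hc.vel)
    refine inf_le_left.trans (le_trans ?_ (ker2_series hEV₁.le (hc.sub hV₁V).vel))
    refine le_inf (le_top.trans' le_top |>.trans ?_) hredY.ge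
    exact fun x _ => centralizer_le_ker2 E fun e he => (hEc e he x).eq
  -- all inequalities are equalities
  set a := (ker2 V).relIndex W
  set a' := (ker2 V).relIndex W'
  set aY := KY.relIndex W
  set aY' := KY.relIndex W'
  set aQ := KQ.relIndex W
  set aQ' := KQ.relIndex W'
  have hY : (aY * aY') ^ 2 ≤ E.relIndex V₁ := by
    have h := bound_section hfree (hc.sub hV₁V) E
    rwa [hredY] at h
  have hQ : (aQ * aQ') ^ 2 ≤ V₁.relIndex V := bound_section hfree hc V₁
  have hmulW : ∀ U : Subgroup X, (ker2 V).relIndex U ≤ KY.relIndex U * KQ.relIndex U := fun U =>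
    (relIndex_le_of_le_left hKYQ index_ne_zero_of_finite).trans relIndex_inf_le
  have hEidx : E.relIndex V = E.relIndex V₁ * V₁.relIndex V :=
    (relIndex_mul_relIndex E V₁ V hEV₁.le hV₁V).symm
  have hYne : KY ≠ ⊤ := by
    intro h
    have h1 : ∀ U : Subgroup X, KY.relIndex U = 1 := fun U => relIndex_eq_one.2 (h ▸ le_top)
    have h2 : 1 < E.relIndex V₁ := by
      refine Nat.one_lt_iff_ne_zero_and_ne_one.2 ⟨index_ne_zero_of_finite, fun h => ?_⟩
      exact hEV₁.not_ge (relIndex_eq_one.1 h)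
    have h3 : rr V W W' ≤ V₁.relIndex V := by
      refine le_trans (Nat.pow_le_pow_left ?_ 2) hQ
      have := Nat.mul_le_mul (hmulW W) (hmulW W')
      simpa only [h1, one_mul] using this
    have h4 : 0 < V₁.relIndex V := Nat.pos_of_ne_zero index_ne_zero_of_finite
    have h5 := hsmall.trans h3
    rw [hEidx] at h5
    nlinarith
  have hsum : rr V W W' = E.relIndex V ∧ (aQ * aQ') ^ 2 = V₁.relIndex V ∧ a = aY * aQ := by
    have h1 := Nat.mul_le_mul (hmulW W) (hmulW W')
    have h2 : rr V W W' ≤ (aY * aY') ^ 2 * (aQ * aQ') ^ 2 := by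
      rw [← mul_pow]
      refine Nat.pow_le_pow_left (h1.trans (le_of_eq ?_)) 2
      ring
    have h3 : (aY * aY') ^ 2 * (aQ * aQ') ^ 2 ≤ E.relIndex V := hEidx ▸ Nat.mul_le_mul hY hQ
    have hpos : ∀ U : Subgroup X, ∀ K : Subgroup X, 0 < K.relIndex U := fun U K =>
      Nat.pos_of_ne_zero index_ne_zero_of_finite
    refine ⟨le_antisymm (h2.trans h3) hsmall, ?_, ?_⟩
    · by_contra h
      have hlt : (aQ * aQ') ^ 2 < V₁.relIndex V := lt_of_le_of_ne hQ h
      have : (aY * aY') ^ 2 * (aQ * aQ') ^ 2 < E.relIndex V := by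
        rw [hEidx]
        exact Nat.mul_lt_mul_of_le_of_lt hY hlt (hpos V₁ E)
      omega
    · by_contra h
      have hlt : a < aY * aQ := lt_of_le_of_ne (hmulW W) h
      have h' : a * a' < (aY * aQ) * (aY' * aQ') :=
        Nat.mul_lt_mul_of_lt_of_le hlt (hmulW W') (Nat.mul_pos (hpos W' KY) (hpos W' KQ))
      have : rr V W W' < (aY * aY') ^ 2 * (aQ * aQ') ^ 2 := by
        rw [← mul_pow]
        refine Nat.pow_lt_pow_left ?_ two_ne_zero
        calc a * a' < (aY * aQ) * (aY' * aQ') := h'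
          _ = aY * aY' * (aQ * aQ') := by ring
      omega
  obtain ⟨-, hQeq, haeq⟩ := hsum
  -- `W` is the product of its parts
  have hWsup : W ≤ (W ⊓ KY) ⊔ (W ⊓ KQ) := by
    set A := W ⊓ KY
    set B := W ⊓ KQ
    have hle : A ⊔ B ≤ W := sup_le inf_le_left inf_le_left
    refine (eq_of_le_of_card_ge hle ?_).ge
    have hAn : A ≤ normalizer (B : Set X) := fun x hx => centralizer_le_normalizer _
      (show x ∈ centralizer (B : Set X) from fun b hb =>
        congrArg Subtype.val (hc.wel.1.is_comm.comm ⟨b, hb.1⟩ ⟨x, hx.1⟩))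
    have h1 := PLocal.card_sup_mul_card_inf (A := A) (B := B) hAn
    have h2 : Nat.card A * aY = Nat.card W := by
      rw [show aY = A.relIndex W from (inf_relIndex_left _ _).symm]
      exact PLocal.card_mul_relIndex inf_le_left
    have h3 : Nat.card B * aQ = Nat.card W := by
      rw [show aQ = B.relIndex W from (inf_relIndex_left _ _).symm]
      exact PLocal.card_mul_relIndex inf_le_left
    have h4 : Nat.card ↥(A ⊓ B) * a ≤ Nat.card W := by
      rw [show a = (W ⊓ ker2 V).relIndex W from (inf_relIndex_left _ _).symm,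
        ← PLocal.card_mul_relIndex (inf_le_left : W ⊓ ker2 V ≤ W)]
      refine Nat.mul_le_mul_right _ (card_le_of_le ?_)
      exact fun x hx => ⟨hx.1.1, hKYQ ⟨hx.1.2, hx.2.2⟩⟩
    have hpos : 0 < Nat.card ↥(A ⊓ B) * a := Nat.mul_pos Nat.card_pos (by omega)
    refine Nat.le_of_mul_le_mul_right ?_ hpos
    calc Nat.card W * (Nat.card ↥(A ⊓ B) * a) ≤ Nat.card W * Nat.card W := Nat.mul_le_mul_left _ h4
      _ = (Nat.card A * aY) * (Nat.card B * aQ) := by rw [h2, h3]
      _ = (Nat.card A * Nat.card B) * (aY * aQ) := by ring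
      _ = Nat.card ↥(A ⊔ B) * (Nat.card ↥(A ⊓ B) * a) := by rw [← h1, haeq]; ring
  have hWY : ¬ W ≤ KY := by
    intro h
    apply hYne
    have h1 : (W.map (QuotientGroup.mk' E)) ≤
        centralizer (V₁.map (QuotientGroup.mk' E) : Set (X ⧸ E)) := map_le_iff_le_comap.2 h
    have h2 := ((hc.sub hV₁V).map (QuotientGroup.mk'_surjective E)).trivial_of_minimal (fun A hA hAn hA0 => by
      haveI := hAn
      have hle : A.comap (QuotientGroup.mk' E) ≤ V₁ := by
        refine (comap_mono hA).trans ?_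
        rw [comap_map_eq, QuotientGroup.ker_mk']; exact sup_le le_rfl hEV₁.le
      rcases hmin (A.comap (QuotientGroup.mk' E)) inferInstance (by
          intro x hx
          rw [mem_comap, show QuotientGroup.mk' E x = 1 from (QuotientGroup.eq_one_iff x).2 hx]
          exact one_mem A) hle with h | h
      · refine absurd (le_bot_iff.1 fun z hz => ?_) hA0
        obtain ⟨x, rfl⟩ := QuotientGroup.mk'_surjective E z
        exact mem_bot.2 ((QuotientGroup.eq_one_iff x).2 (h.le (mem_comap.2 hz)))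
      · rw [← h, map_comap_eq_self_of_surjective (QuotientGroup.mk'_surjective E)]) h1
    rw [hKYdef, secC, h2, comap_top]
  have hsq : ∀ w ∈ W, ∀ K : Subgroup X, w ^ 2 ∈ K := fun w hw K => by
    rw [hc.wel.2 w hw]; exact one_mem _
  -- the odd supplement
  obtain ⟨P₀, hP₀n, hWP, hPodd⟩ := hP
  set P := P₀ ⊔ ker2 V with hPdef
  haveI : P.Normal := sup_normal _ _
  have hPodd' : ∀ x ∈ P, ∃ m : ℕ, Odd m ∧ x ^ m ∈ ker2 V := by
    intro x hx
    obtain ⟨p, hp, k, hk, rfl⟩ := Subgroup.mem_sup_of_normal_right.1 hx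
    obtain ⟨m, hm, hpm⟩ := hPodd p hp
    refine ⟨m, hm, (QuotientGroup.eq_one_iff _).1 ?_⟩
    rw [QuotientGroup.mk_pow, QuotientGroup.mk_mul, show ((k : X) : X ⧸ ker2 V) = 1 from
      (QuotientGroup.eq_one_iff k).2 hk, mul_one, ← QuotientGroup.mk_pow]
    exact (QuotientGroup.eq_one_iff _).2 hpm
  have hgen : P ⊔ W = ⊤ := by
    rw [eq_top_iff, ← hc.gen]
    refine sup_le (sup_le le_sup_right (hWP.trans (sup_le_sup_right le_sup_left W))) ?_
    exact le_trans ((centralizer_le_ker2 V).trans le_sup_right) le_sup_left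
  obtain ⟨R, hRP, hRodd, hRK⟩ := exists_odd_supplement P (ker2 V) le_sup_right hPodd'
  have hRo : ∀ r ∈ R, Odd (orderOf r) := fun r hr =>
    hRodd.of_dvd_nat (Subgroup.orderOf_dvd_natCard R hr)
  have hdec : ∀ x ∈ P, ∃ r ∈ R, ∃ k ∈ ker2 V, r * k = x := fun x hx =>
    Subgroup.mem_sup_of_normal_right.1 (hRK.symm ▸ hx)
  -- an element of `W` commuting with `P` modulo a chief kernel lies in it
  have hcentral : ∀ M L : Subgroup X, ∀ [M.Normal] [L.Normal], secKer M L = secC M L →
      ∀ w ∈ W, (∀ x ∈ P, ⁅x, w⁆ ∈ secC M L) → w ∈ secC M L := by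
    intro M L _ _ hred w hw hP'
    haveI : (secC M L).Normal := hred ▸ (inferInstance : (secKer M L).Normal)
    refine mem_secC_of_central hred (hsq w hw _) fun x => ?_
    have hle : P ⊔ W ≤ (centralizer ({QuotientGroup.mk' (secC M L) w} : Set (X ⧸ secC M L))).comap
        (QuotientGroup.mk' (secC M L)) := by
      refine sup_le (fun x hx => mem_comap.2 (mem_centralizer_singleton_iff.2 ?_))
        fun x hx => mem_comap.2 (mem_centralizer_singleton_iff.2 ?_)
      · rw [← commutatorElement_eq_one_iff_mul_comm, ← map_commutatorElement]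
        exact (QuotientGroup.eq_one_iff _).2 (hP' x hx)
      · rw [← map_mul, ← map_mul]
        exact congrArg _ (congrArg Subtype.val (hc.wel.1.is_comm.comm ⟨x, hx⟩ ⟨w, hw⟩))
    rw [← QuotientGroup.eq_one_iff]
    show QuotientGroup.mk' (secC M L) ⁅x, w⁆ = 1
    rw [map_commutatorElement, commutatorElement_eq_one_iff_mul_comm]
    exact mem_centralizer_singleton_iff.1 (hle (hgen.ge (mem_top x)))
  have hcommP : ∀ x ∈ P, ∀ w : X, ∀ K : Subgroup X, K.Normal → w ∈ K → ⁅x, w⁆ ∈ P ⊓ K := by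
    intro x hx w K hK hw
    refine ⟨?_, ?_⟩ <;> rw [commutatorElement_def]
    · rw [mul_assoc, mul_assoc, ← mul_assoc w]
      exact P.mul_mem hx ((inferInstance : P.Normal).conj_mem _ (P.inv_mem hx) w)
    · exact K.mul_mem (hK.conj_mem _ hw x) (K.inv_mem hw)
  set R' := R ⊓ KY with hR'def
  set R₁ := R ⊓ secC V V₁ with hR₁def
  have hR'cent : ∀ r ∈ R', ∀ v ∈ V₁, Commute v r := by
    intro r hr v hv
    have hmem : r ∈ ker2 V₁ := by
      refine ker2_series hEV₁.le (hc.sub hV₁V).vel ⟨?_, hredY.ge hr.2⟩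
      exact centralizer_le_ker2 E fun e he => (hEc e he r).eq
    exact mem_centralizer_of_odd hmem (hRo r hr.1) v hv
  -- fixed points of `R'`
  have hfpf : V ⊓ centralizer (R' : Set X) ≤ V₁ := by
    obtain ⟨N₂, ⟨hN₂n, hV₁N₂, hN₂V, hCN₂⟩, hN₂min⟩ := (Set.toFinite {A : Subgroup X | A.Normal ∧
      V₁ ≤ A ∧ A ≤ V ∧ V ⊓ centralizer (R' : Set X) ≤ A}).exists_minimalFor id _
        ⟨V, inferInstance, hV₁V, le_rfl, inf_le_left⟩
    rcases eq_or_lt_of_le hV₁N₂ with h | hlt
    · exact hCN₂.trans h.ge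
    exfalso
    obtain ⟨N₁, ⟨hN₁n, hV₁N₁, hN₁N₂⟩, hN₁max⟩ := (Set.toFinite {A : Subgroup X | A.Normal ∧
      V₁ ≤ A ∧ A < N₂}).exists_maximalFor id _ ⟨V₁, inferInstance, le_rfl, hlt⟩
    haveI := hN₁n
    haveI := hN₂n
    have hminS : ∀ A : Subgroup X, A.Normal → N₁ ≤ A → A ≤ N₂ → A = N₁ ∨ A = N₂ := fun A hA h1 h2 => by
      rcases eq_or_lt_of_le h2 with h | h
      · exact Or.inr h
      · exact Or.inl (le_antisymm (hN₁max ⟨hA, hV₁N₁.trans h1, h⟩ h1) h1)
    have hredS : secKer N₂ N₁ = secC N₂ N₁ := secKer_eq_of_minimal (hV2.to_le hN₂V) hN₁N₂.le hminS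
    obtain ⟨c, hcC, hcN₁⟩ := SetLike.not_le_iff_exists.1 fun h => hN₁N₂.not_ge
      (hN₂min ⟨hN₁n, hV₁N₁, hN₁N₂.le.trans hN₂V, h⟩ hN₁N₂.le)
    -- the section is not central
    have hKne : secC N₂ N₁ ≠ ⊤ := by
      intro htop
      have h := rr_le_of_trivial_section (hfree.quotient V₁) (V := V.map (QuotientGroup.mk' V₁))
        (N := N₁.map (QuotientGroup.mk' V₁)) (M := N₂.map (QuotientGroup.mk' V₁))
        (map_mono hN₁N₂.le) (map_mono hN₂V) (hc.map (QuotientGroup.mk'_surjective V₁)) (by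
          rintro _ ⟨v, hv, rfl⟩ z
          obtain ⟨x, rfl⟩ := QuotientGroup.mk'_surjective V₁ z
          rw [← map_commutatorElement]
          exact mem_map_of_mem _ (mem_secC.1 (htop.ge (mem_top x)) v hv))
      unfold rr at h
      rw [← relIndex_comap, ← relIndex_comap] at h
      have h1 : Nat.card (N₁.map (QuotientGroup.mk' V₁)) = V₁.relIndex N₁ := by
        rw [← relIndex_ker, QuotientGroup.ker_mk']
      have h2 : (N₂.map (QuotientGroup.mk' V₁)).relIndex (V.map (QuotientGroup.mk' V₁)) =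
          N₂.relIndex V := by
        rw [relIndex_map_map, QuotientGroup.ker_mk', sup_eq_left.2 hV₁N₂, sup_eq_left.2 hV₁V]
      rw [h1, h2, hQeq, ← relIndex_mul_relIndex V₁ N₁ V hV₁N₁ (hN₁N₂.le.trans hN₂V),
        ← relIndex_mul_relIndex N₁ N₂ V hN₁N₂.le hN₂V] at h
      have h3 : 2 ≤ N₁.relIndex N₂ := Nat.one_lt_iff_ne_zero_and_ne_one.2
        ⟨index_ne_zero_of_finite, fun h => hN₁N₂.not_ge (relIndex_eq_one.1 h)⟩
      have h4 : 0 < V₁.relIndex N₁ := Nat.pos_of_ne_zero index_ne_zero_of_finite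
      have h5 : 0 < N₂.relIndex V := Nat.pos_of_ne_zero index_ne_zero_of_finite
      nlinarith [Nat.mul_le_mul_left (V₁.relIndex N₁) (Nat.mul_le_mul_right (N₂.relIndex V) h3)]
    have hK2S : ker2 V ≤ secC N₂ N₁ := (ker2_le_secKer hN₂V).trans hredS.le
    have hKQS : KQ ≤ secC N₂ N₁ := (secKer_le_secKer hN₂V hV₁N₁).trans hredS.le
    -- the fixed points of `P ⊓ KY`
    have hPK : P ⊓ KY ≤ secC N₂ N₁ := by
      haveI : (P ⊓ KY).Normal := normal_inf_normal _ _
      haveI : ((P ⊓ KY).map (QuotientGroup.mk' N₁)).Normal :=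
        (inferInstance : (P ⊓ KY).Normal).map _ (QuotientGroup.mk'_surjective N₁)
      set F := N₂ ⊓ (centralizer (((P ⊓ KY).map (QuotientGroup.mk' N₁)) : Set (X ⧸ N₁))).comap
        (QuotientGroup.mk' N₁) with hF
      have hFn : F.Normal := normal_inf_normal _ _
      have hN₁F : N₁ ≤ F := le_inf hN₁N₂.le fun x hx => by
        rw [mem_comap, show QuotientGroup.mk' N₁ x = 1 from (QuotientGroup.eq_one_iff x).2 hx]
        exact one_mem _
      have hcF : c ∈ F := by
        refine ⟨hCN₂ hcC, mem_comap.2 ?_⟩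
        rintro _ ⟨x, hx, rfl⟩
        obtain ⟨r, hr, k, hk, rfl⟩ := hdec x hx.1
        have hrY : r ∈ KY := by
          have := KY.mul_mem hx.2 (KY.inv_mem (hK2Y hk))
          rwa [mul_inv_cancel_right] at this
        have hkc : Commute (QuotientGroup.mk' N₁ k) (QuotientGroup.mk' N₁ c) :=
          ((mem_comap.1 (hK2S hk)) _ (mem_map_of_mem _ (hCN₂ hcC))).symm
        have hrc : Commute (QuotientGroup.mk' N₁ r) (QuotientGroup.mk' N₁ c) :=
          (show Commute r c from hcC.2 r ⟨hr, hrY⟩).map _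
        rw [map_mul]
        exact (hrc.mul_left hkc).eq
      have hFeq : F = N₂ := (hminS F hFn hN₁F inf_le_left).resolve_left fun h => hcN₁ (h ▸ hcF)
      intro x hx
      rw [mem_comap]
      rintro _ ⟨v, hv, rfl⟩
      exact ((mem_comap.1 (hFeq.ge hv).2) _ (mem_map_of_mem _ hx)).symm
    haveI : (secC N₂ N₁).Normal := hredS ▸ (inferInstance : (secKer N₂ N₁).Normal)
    have hWS : W ≤ secC N₂ N₁ := by
      refine hWsup.trans (sup_le (fun w hw => hcentral N₂ N₁ hredS w hw.1 fun x hx =>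
        hPK (hcommP x hx w KY hKYn hw.2)) (inf_le_right.trans hKQS))
    apply hKne
    have h2 := ((hc.sub hN₂V).map (QuotientGroup.mk'_surjective N₁)).trivial_of_minimal (fun A hA hAn hA0 => by
      haveI := hAn
      have hle : A.comap (QuotientGroup.mk' N₁) ≤ N₂ := by
        refine (comap_mono hA).trans ?_
        rw [comap_map_eq, QuotientGroup.ker_mk']; exact sup_le le_rfl hN₁N₂.le
      rcases hminS (A.comap (QuotientGroup.mk' N₁)) inferInstance (by
          intro x hx
          rw [mem_comap, show QuotientGroup.mk' N₁ x = 1 from (QuotientGroup.eq_one_iff x).2 hx]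
          exact one_mem A) hle with h | h
      · refine absurd (le_bot_iff.1 fun z hz => ?_) hA0
        obtain ⟨x, rfl⟩ := QuotientGroup.mk'_surjective N₁ z
        exact mem_bot.2 ((QuotientGroup.eq_one_iff x).2 (h.le (mem_comap.2 hz)))
      · rw [← h, map_comap_eq_self_of_surjective (QuotientGroup.mk'_surjective N₁)])
      (map_le_iff_le_comap.2 hWS)
    rw [secC, h2, comap_top]
  -- `R₁` moves `V₁ / E`
  have hR₁Y : ¬ R₁ ≤ KY := by
    intro h
    apply hWY
    refine hWsup.trans (sup_le inf_le_right fun w hw => ?_)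
    refine hcentral V₁ E hredY w hw.1 fun x hx => ?_
    obtain ⟨hx1, hx2⟩ := hcommP x hx w KQ inferInstance hw.2
    obtain ⟨r, hr, k, hk, hrk⟩ := hdec _ hx1
    rw [← hrk]
    refine mul_mem (h ⟨hr, mem_secC_of_odd ?_ (hRo r hr)⟩) (hK2Y hk)
    have := KQ.mul_mem (hrk.symm ▸ hx2 : r * k ∈ KQ) (KQ.inv_mem (hK2Q hk))
    rwa [mul_inv_cancel_right] at this
  have hRnorm : ∀ K : Subgroup X, K.Normal → R ≤ normalizer ((R ⊓ K : Subgroup X) : Set X) := by
    intro K hK r hr
    rw [mem_normalizer_iff]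
    intro x
    refine ⟨fun hx => ⟨R.mul_mem (R.mul_mem hr hx.1) (R.inv_mem hr), hK.conj_mem x hx.2 r⟩, fun hx => ?_⟩
    refine ⟨?_, ?_⟩
    · have := R.mul_mem (R.mul_mem (R.inv_mem hr) hx.1) hr; simpa [mul_assoc] using this
    · have := hK.conj_mem _ hx.2 r⁻¹; simpa [mul_assoc] using this
  set T := N ⊓ ker2 V with hTdef
  haveI : T.Normal := normal_inf_normal _ _
  set K₀ := T ⊓ centralizer (V₁ : Set X) with hK₀def
  haveI : K₀.Normal := normal_inf_normal _ _
  have hTY : T ≤ KY := inf_le_right.trans hK2Y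
  have hTne : ¬ T ≤ centralizer (V₁ : Set X) := by
    intro h
    refine hWY fun w hw => centralizer_le_secC V₁ E fun v hv => ?_
    refine ((hfix ⟨hV₁V hv, fun u hu => ?_⟩ : v ∈ centralizer (W : Set X)) w hw).symm
    exact ((h ⟨hW0 hu, hu.2⟩) v hv).symm
  have hpair := card_mul_relIndex_le (hc.sub hEV).vel hEc hEV₁.le hmin hTY hTne
  have hT2 : IsPGroup 2 T := hN.to_le inf_le_left
  have hcopR : ∀ S : Subgroup X, S ≤ R → ∀ U : Subgroup X, IsPGroup 2 U →
      (Nat.card S).Coprime (Nat.card U) := by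
    intro S hS U hU
    haveI : Fact (Nat.Prime 2) := ⟨Nat.prime_two⟩
    obtain ⟨n, hn⟩ := IsPGroup.iff_card.1 hU
    rw [hn]
    exact (Nat.coprime_two_right.2 (hRodd.of_dvd_nat (card_dvd_of_le hS))).pow_right n
  have hsolv : ∀ S : Subgroup X, Group.IsSolvable S := fun S => inferInstance
  set T₁ := T ⊓ centralizer (R' : Set X) with hT₁def
  set H := ⁅T₁, R₁⁆ with hHdef
  have hnTR : ∀ U : Subgroup X, U ≤ normalizer (T : Set X) := fun U => by
    rw [normalizer_eq_top]; exact le_top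
  have hnVR : ∀ U : Subgroup X, U ≤ normalizer (V : Set X) := fun U => by
    rw [normalizer_eq_top]; exact le_top
  have hHT : H ≤ T := (commutator_mono inf_le_left le_rfl).trans
    (Coprime.commutator_le_of_le_normalizer (hnTR _))
  -- `T = H K₀`
  have hHK : T ≤ H ⊔ K₀ := by
    have hstep1 : ∀ t ∈ T, ∃ t₁ ∈ T₁, ∃ k ∈ K₀, t₁ * k = t := by
      intro t ht
      obtain ⟨c, hcc, hcK⟩ := Coprime.exists_fixed_mem_coset (N := K₀) (A := R')
        (by rw [normalizer_eq_top]; exact le_top) (hcopR R' inf_le_left K₀ (hT2.to_le inf_le_left))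
        (Or.inl (hsolv R')) (k := t) fun r hr => by
          refine ⟨T.mul_mem (T.inv_mem ht) ((inferInstance : T.Normal).conj_mem t ht r), fun v hv => ?_⟩
          have he := mem_secC.1 (hTY ht) v hv
          have hrv : Commute r v := (hR'cent r hr v hv).symm
          have hre : Commute r ⁅v, t⁆ := (hEc _ he r).symm
          have htv : t * v * t⁻¹ = ⁅v, t⁆⁻¹ * v := by simp only [commutatorElement_def]; group
          have h1 : r * t * r⁻¹ * v * (r * t * r⁻¹)⁻¹ = t * v * t⁻¹ := by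
            calc r * t * r⁻¹ * v * (r * t * r⁻¹)⁻¹ = r * (t * (r⁻¹ * v * r) * t⁻¹) * r⁻¹ := by group
              _ = t * v * t⁻¹ := by
                rw [hrv.inv_left.eq, inv_mul_cancel_right, htv,
                  (hre.inv_right.mul_right hrv).eq, mul_inv_cancel_right]
          have h2 : t⁻¹ * (r * t * r⁻¹) * v * (t⁻¹ * (r * t * r⁻¹))⁻¹ = v := by
            calc t⁻¹ * (r * t * r⁻¹) * v * (t⁻¹ * (r * t * r⁻¹))⁻¹ =
                t⁻¹ * (r * t * r⁻¹ * v * (r * t * r⁻¹)⁻¹) * t := by group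
              _ = v := by rw [h1]; group
          exact (mul_inv_eq_iff_eq_mul.1 h2).symm
      have hcT : c ∈ T := by
        have := mul_mem ht (hcK.1 : t⁻¹ * c ∈ T)
        simpa using this
      exact ⟨c, ⟨hcT, hcc⟩, (t⁻¹ * c)⁻¹, inv_mem hcK, by group⟩
    have hstep2 : ⁅T, R₁⁆ ≤ H ⊔ K₀ := commutator_le.2 fun t ht r hr => by
      obtain ⟨t₁, ht₁, k, hk, rfl⟩ := hstep1 t ht
      rw [show ⁅t₁ * k, r⁆ = (t₁ * ⁅k, r⁆ * t₁⁻¹) * ⁅t₁, r⁆ by simp only [commutatorElement_def]; group]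
      refine mul_mem (mem_sup_right ((inferInstance : K₀.Normal).conj_mem _ ?_ t₁))
        (mem_sup_left (commutator_mem_commutator ht₁ hr))
      rw [commutatorElement_def, mul_assoc, mul_assoc, ← mul_assoc r]
      exact mul_mem hk ((inferInstance : K₀.Normal).conj_mem _ (inv_mem hk) r)
    have hfixR₁ : T ⊓ centralizer (R₁ : Set X) ≤ K₀ := by
      refine le_inf inf_le_left fun t ht => ?_
      -- `V₁ = [V₁, R₁] E`
      set M := ⁅V₁, R₁⁆ ⊔ E with hM
      have hMle : M ≤ V₁ := sup_le (Coprime.commutator_le_of_le_normalizer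
        (by rw [normalizer_eq_top]; exact le_top)) hEV₁.le
      haveI : (P ⊓ KQ).Normal := normal_inf_normal _ _
      have hle : ⁅V₁, P ⊓ KQ⁆ ≤ M := commutator_le.2 fun v hv x hx => by
        obtain ⟨r, hr, k, hk, rfl⟩ := hdec x hx.1
        have hr₁ : r ∈ R₁ := ⟨hr, mem_secC_of_odd (by
          have := KQ.mul_mem hx.2 (KQ.inv_mem (hK2Q hk))
          rwa [mul_inv_cancel_right] at this) (hRo r hr)⟩
        rw [show ⁅v, r * k⁆ = ⁅v, r⁆ * (r * ⁅v, k⁆ * r⁻¹) by simp only [commutatorElement_def]; group]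
        exact mul_mem (mem_sup_left (commutator_mem_commutator hv hr₁))
          (mem_sup_right ((inferInstance : E.Normal).conj_mem _ (mem_secC.1 (hK2Y hk) v hv) r))
      have hM' : V₁ ≤ M := by
        haveI : (⁅V₁, P ⊓ KQ⁆ ⊔ E).Normal := sup_normal _ _
        rcases hmin (⁅V₁, P ⊓ KQ⁆ ⊔ E) inferInstance le_sup_right
          (sup_le (Coprime.commutator_le_of_le_normalizer (by rw [normalizer_eq_top]; exact le_top))
            hEV₁.le) with h | h
        · refine absurd (fun r hr => mem_secC.2 fun v hv => h.le (mem_sup_left ?_)) hR₁Y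
          exact commutator_mem_commutator hv ⟨hRP hr.1,
            (le_secKer (V := V) (N := V₁) (K := normalClosure ({r} : Set X)) (fun x hx => ⟨0, by
              rw [pow_zero, pow_one]
              exact normalClosure_le_normal (Set.singleton_subset_iff.2 hr.2) hx⟩)
              (subset_normalClosure (Set.mem_singleton r)))⟩
        · exact h.ge.trans (sup_le hle le_sup_right)
      have htM : M ≤ centralizer ({t} : Set X) := by
        refine sup_le (commutator_le.2 fun v hv r hr => mem_centralizer_singleton_iff.2 ?_)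
          fun e he => mem_centralizer_singleton_iff.2 (hEc e he t).eq
        have he := mem_secC.1 (hTY ht.1) v hv
        have htv : t * v * t⁻¹ = ⁅v, t⁆⁻¹ * v := by simp only [commutatorElement_def]; group
        have htr : t * r * t⁻¹ = r := by rw [← (ht.2 r hr), mul_inv_cancel_right]
        have hre : r * ⁅v, t⁆ * r⁻¹ = ⁅v, t⁆ := by rw [← (hEc _ he r).eq, mul_inv_cancel_right]
        have h1 : t * ⁅v, r⁆ * t⁻¹ = ⁅v, r⁆ := by
          calc t * ⁅v, r⁆ * t⁻¹ = ⁅t * v * t⁻¹, t * r * t⁻¹⁆ := by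
                simp only [commutatorElement_def]; group
            _ = ⁅v, t⁆⁻¹ * ⁅v, r⁆ * (r * ⁅v, t⁆ * r⁻¹) := by
                rw [htv, htr]; simp only [commutatorElement_def]; group
            _ = ⁅v, r⁆ := by rw [hre, mul_assoc, ← (hEc _ he _).eq, inv_mul_cancel_left]
        exact (mul_inv_eq_iff_eq_mul.1 h1).symm
      exact fun v hv => mem_centralizer_singleton_iff.1 (htM (hM' hv))
    calc T = ⁅T, R₁⁆ ⊔ (T ⊓ centralizer (R₁ : Set X)) :=
          (Coprime.commutator_sup_centralizer (hnTR _) (hcopR R₁ inf_le_left T hT2)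
            (Or.inl (hsolv R₁))).symm
      _ ≤ H ⊔ K₀ := sup_le hstep2 (hfixR₁.trans le_sup_right)
  -- `H` kills `E` and the moved part of `R'`
  haveI : IsMulCommutative V := hc.vel.1
  set V₂ := ⁅V, R'⁆ with hV₂def
  have hV₂V : V₂ ≤ V := Coprime.commutator_le_of_le_normalizer (hnVR _)
  have hcopV : (Nat.card R').Coprime (Nat.card V) := hcopR R' inf_le_left V hV2
  have hVdec : V ≤ V₁ ⊔ V₂ := by
    refine (Coprime.inf_centralizer_sup_commutator_eq (hnVR R') hcopV).ge.trans ?_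
    exact sup_le_sup_right hfpf _
  have hR₁V₂ : ∀ r ∈ R₁, ∀ v ∈ V₂, Commute v r := by
    intro r hr v hv
    have hn : R₁ ≤ normalizer (V₂ : Set X) := HallHigman.le_normalizer_commutator (hnVR _)
      (inf_le_left.trans (hRnorm KY hKYn))
    have h1 : ⁅v, r⁆ ∈ (V ⊓ centralizer (R' : Set X)) ⊓ V₂ := by
      refine ⟨⟨?_, fun x hx => ?_⟩, ?_⟩
      · exact Coprime.commutator_le_of_le_normalizer (hnVR R₁) (commutator_mem_commutator (hV₂V hv) hr)
      · exact (hR'cent x hx _ (mem_secC.1 hr.2 v (hV₂V hv))).eq.symm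
      · rw [commutatorElement_def, mul_assoc, mul_assoc, ← mul_assoc r]
        exact mul_mem hv ((mem_normalizer_iff.1 (hn hr) _).1 (inv_mem hv))
    rw [Coprime.inf_centralizer_inf_commutator_eq_bot (hnVR R') hcopV, mem_bot,
      commutatorElement_eq_one_iff_mul_comm] at h1
    exact h1
  have hHV₂ : H ≤ centralizer (V₂ : Set X) := commutator_le.2 fun t ht r hr v hv => by
    have hn : T₁ ≤ normalizer (V₂ : Set X) := HallHigman.le_normalizer_commutator (hnVR _) (fun x hx => centralizer_le_normalizer _ hx.2)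
    have hrv := hR₁V₂ r hr
    have hv' : t⁻¹ * v * t ∈ V₂ := by
      simpa using (mem_normalizer_iff.1 (inv_mem (hn ht)) v).1 hv
    have h1 : ⁅t, r⁆ * v * ⁅t, r⁆⁻¹ = v := by
      calc ⁅t, r⁆ * v * ⁅t, r⁆⁻¹ = t * (r * (t⁻¹ * (r⁻¹ * v * r) * t) * r⁻¹) * t⁻¹ := by
            simp only [commutatorElement_def]; group
        _ = t * (r * (t⁻¹ * v * t) * r⁻¹) * t⁻¹ := by
            rw [show r⁻¹ * v * r = v by rw [mul_assoc, (hrv v hv).eq, inv_mul_cancel_left]]
        _ = v := by rw [← (hrv _ hv').eq, mul_inv_cancel_right]; group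
    exact (mul_inv_eq_iff_eq_mul.1 h1).symm
  have hHimg : ∀ h ∈ H, ∀ h' ∈ H, h ^ 2 ∈ centralizer (V : Set X) ∧
      ⁅h, h'⁆ ∈ centralizer (V : Set X) := by
    intro h hh h' hh'
    have key : ∀ z ∈ H, (∀ v ∈ V₁, Commute v z) → z ∈ centralizer (V : Set X) := fun z hz hz1 => by
      intro v hv
      have : V₁ ⊔ V₂ ≤ centralizer ({z} : Set X) := sup_le
        (fun u hu => mem_centralizer_singleton_iff.2 (hz1 u hu).eq)
        (fun u hu => mem_centralizer_singleton_iff.2 ((hHV₂ hz) u hu))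
      exact mem_centralizer_singleton_iff.1 (this (hVdec hv))
    have hE : ∀ z ∈ H, ∀ v ∈ V₁, ⁅v, z⁆ ∈ E := fun z hz v hv => mem_secC.1 (hTY (hHT hz)) v hv
    refine ⟨key _ (pow_mem hh 2) fun v hv => ?_, key _ ?_ fun v hv => ?_⟩
    · rw [← commutatorElement_eq_one_iff_commute, sq, comm_mul_right' fun x => hEc _ (hE h hh v hv) x,
        ← sq]
      exact (hc.sub hEV).vel.2 _ (hE h hh v hv)
    · rw [commutatorElement_def]; exact mul_mem (mul_mem (mul_mem hh hh') (inv_mem hh)) (inv_mem hh')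
    · rw [← commutatorElement_eq_one_iff_commute]
      have hm : ∀ z z', z ∈ H → z' ∈ H → ⁅v, z * z'⁆ = ⁅v, z⁆ * ⁅v, z'⁆ := fun z z' _ hz' =>
        comm_mul_right' fun x => hEc _ (hE z' hz' v hv) x
      have hi : ∀ z, z ∈ H → ⁅v, z⁻¹⁆ = ⁅v, z⁆⁻¹ := fun z hz => by
        have := hm z z⁻¹ hz (inv_mem hz)
        rw [mul_inv_cancel, commutatorElement_one_right] at this
        exact eq_inv_of_mul_eq_one_right this.symm
      rw [commutatorElement_def h h', hm _ _ (mul_mem (mul_mem hh hh') (inv_mem hh)) (inv_mem hh'),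
        hm _ _ (mul_mem hh hh') (inv_mem hh), hm _ _ hh hh', hi _ hh, hi _ hh',
        (hEc _ (hE h hh v hv) _).eq, mul_inv_cancel_right, mul_inv_cancel]
  have hsqH := hSQ H (hHT.trans inf_le_left) (fun h hh => (hHimg h hh h hh).1)
    fun h hh h' hh' => (hHimg h hh h' hh').2
  have hfix' : E ⊔ V₂ ≤ V ⊓ centralizer (H : Set X) := sup_le
    (le_inf hEV fun e he x _ => (hEc e he x).eq.symm)
    (le_inf hV₂V (le_centralizer_iff.1 hHV₂))
  have hidx : (V ⊓ centralizer (H : Set X)).relIndex V ≤ E.relIndex V₁ := by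
    refine (relIndex_le_of_le_left hfix' index_ne_zero_of_finite).trans ?_
    have hb : E ⊔ V₂ ≤ V := sup_le hEV hV₂V
    have hsup : V₁ ⊔ (E ⊔ V₂) = V := le_antisymm (sup_le hV₁V hb)
      (hVdec.trans (sup_le_sup_left le_sup_right _))
    have h1 := PLocal.card_sup_mul_card_inf (A := V₁) (B := E ⊔ V₂)
      (fun x hx => centralizer_le_normalizer _
        (show x ∈ centralizer ((E ⊔ V₂ : Subgroup X) : Set X) from fun b hb' =>
          hVab b (hb hb') x (hV₁V hx)))
    rw [hsup] at h1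
    have h2 : Nat.card E ≤ Nat.card ↥(V₁ ⊓ (E ⊔ V₂)) := card_le_of_le (le_inf hEV₁.le le_sup_left)
    have h3 := PLocal.card_mul_relIndex hb
    have h4 := PLocal.card_mul_relIndex hEV₁.le
    refine Nat.le_of_mul_le_mul_left ?_ (Nat.mul_pos (Nat.card_pos (α := ↥(E ⊔ V₂))) (Nat.card_pos (α := ↥E)))
    calc Nat.card ↥(E ⊔ V₂) * Nat.card E * (E ⊔ V₂).relIndex V
        = Nat.card V * Nat.card E := by rw [← h3]; ring
      _ ≤ Nat.card V * Nat.card ↥(V₁ ⊓ (E ⊔ V₂)) := Nat.mul_le_mul_left _ h2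
      _ = Nat.card V₁ * Nat.card ↥(E ⊔ V₂) := h1
      _ = Nat.card ↥(E ⊔ V₂) * Nat.card E * E.relIndex V₁ := by rw [← h4]; ring
  have hx1 : 1 < E.relIndex V₁ := Nat.one_lt_iff_ne_zero_and_ne_one.2
    ⟨index_ne_zero_of_finite, fun h => hEV₁.not_ge (relIndex_eq_one.1 h)⟩
  have hlow : E.relIndex V₁ ≤ (centralizer (V : Set X)).relIndex H := by
    have h1 : Nat.card T = Nat.card K₀ * K₀.relIndex H := by
      rw [← relIndex_sup_right H K₀, show H ⊔ K₀ = T from le_antisymm (sup_le hHT inf_le_left) hHK,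
        PLocal.card_mul_relIndex inf_le_left]
    rw [h1] at hpair
    refine (Nat.le_of_mul_le_mul_left hpair Nat.card_pos).trans ?_
    rw [← inf_relIndex_right (centralizer (V : Set X)) H]
    refine relIndex_le_of_le_left ?_ index_ne_zero_of_finite
    exact fun h hh => ⟨hHT hh.2, centralizer_le (show (V₁ : Set X) ⊆ V from hV₁V) hh.1⟩
  nlinarith [hsqH.trans hidx]

end CfsgLib.PrimitivePairTwo
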