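import Cfsg.Agent.PrimitivePairTwo.Basic
import Cfsg.Agent.HallHigman.CyclicQuotient

/-!
# A conjugate of an elementary abelian 2-subgroup in general position

If `A` is an elementary abelian 2-group acting faithfully on a group of odd order, then some element
is moved by every non-trivial element of `A`; so `W` has a conjugate `W'` such that `⟨W, W'⟩` sees all
of `W` modulo `O₂`.
-/

set_option autoImplicit false
set_option linter.style.haveILetI false
set_option linter.unusedSectionVars false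

universe u

namespace CfsgLib.PrimitivePairTwo

open Subgroup
open scoped commutatorElement

variable {X : Type u} [Group X] [Finite X]

theorem eq_one_of_sq_of_odd {x : X} (h2 : x ^ 2 = 1) {n : ℕ} (hn : Odd n) (hx : x ^ n = 1) :
    x = 1 := by
  obtain ⟨k, rfl⟩ := hn
  rwa [pow_succ, pow_mul, h2, one_pow, one_mul] at hx

/-- An elementary abelian 2-group acting faithfully on a group of odd order has a regular orbit. -/
theorem exists_regular (K : Subgroup X) (hK : Odd (Nat.card K)) :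
    ∀ n (A : Subgroup X), Nat.card A = n → Cfsg.IsElementaryAbelian 2 A →
      A ≤ normalizer (K : Set X) → (∀ a ∈ A, (∀ k ∈ K, Commute a k) → a = 1) →
      ∃ f ∈ K, ∀ a ∈ A, Commute a f → a = 1 := by
  intro n
  induction n using Nat.strong_induction_on with
  | _ n ih =>
  intro A hn hA hAK hfaith
  rcases eq_or_ne A ⊥ with rfl | hA1
  · exact ⟨1, one_mem _, fun a ha _ => mem_bot.1 ha⟩
  have hsq : ∀ a ∈ A, a * a = 1 := fun a ha => by rw [← sq]; exact hA.2 a ha
  have hAc : ∀ u ∈ A, ∀ v ∈ A, u * v = v * u := fun u hu v hv =>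
    congrArg Subtype.val (hA.1.is_comm.comm ⟨u, hu⟩ ⟨v, hv⟩)
  have hcop : (Nat.card A).Coprime (Nat.card K) := by
    haveI : Fact (Nat.Prime 2) := ⟨Nat.prime_two⟩
    obtain ⟨m, hm⟩ := IsPGroup.iff_card.1
      (show IsPGroup 2 A from fun a => ⟨1, Subtype.ext (by simpa using hA.2 a a.2)⟩)
    rw [hm]
    exact (Nat.coprime_two_left.2 hK).pow_left m
  obtain ⟨B, hBA, ⟨a, ha, haB⟩, hBK⟩ : ∃ B, B ≤ A ∧ (∃ a ∈ A, B ⊔ zpowers a = A) ∧
      ¬ K ⊓ centralizer (B : Set X) ≤ centralizer (A : Set X) := by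
    by_contra! h
    apply hA1
    rw [eq_bot_iff]
    intro b hb
    exact hfaith b hb fun k hk =>
      (HallHigman.le_of_forall_cyclic_quotient hA.1 hAK hcop h) hk b hb
  obtain ⟨y, ⟨hyK, hyB⟩, hyA⟩ := SetLike.not_le_iff_exists.mp hBK
  have hai : a⁻¹ = a := inv_eq_of_mul_eq_one_left (hsq a ha)
  have haBn : zpowers a ≤ normalizer (B : Set X) := zpowers_le.2 (mem_normalizer_iff.2 fun b =>
    ⟨fun hb => by rwa [hAc a ha b (hBA hb), mul_inv_cancel_right], fun hb => by
      have hbA : b ∈ A := by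
        have := mul_mem (mul_mem (inv_mem ha) (hBA hb)) ha
        simpa [mul_assoc] using this
      rwa [hAc a ha b hbA, mul_inv_cancel_right] at hb⟩)
  have hsplit : ∀ x ∈ A, x ∈ B ∨ ∃ b ∈ B, x = b * a := by
    intro x hx
    rw [← haB] at hx
    obtain ⟨b, hb, s, hs, rfl⟩ := Coprime.exists_mul_of_mem_sup haBn hx
    obtain ⟨i, rfl⟩ := mem_zpowers_iff.1 hs
    rcases Int.even_or_odd i with ⟨j, rfl⟩ | ⟨j, rfl⟩
    · left; rwa [← two_mul, zpow_mul, zpow_two, hsq a ha, one_zpow, mul_one]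
    · right
      exact ⟨b, hb, by rw [zpow_add, zpow_mul, zpow_two, hsq a ha, one_zpow, one_mul, zpow_one]⟩
  have hya : ¬ Commute a y := fun h => hyA (by
    rw [SetLike.mem_coe.symm.trans Iff.rfl]
    intro x hx
    rcases hsplit x hx with hb | ⟨b, hb, rfl⟩
    · exact hyB x hb
    · exact ((show Commute b y from hyB b hb).mul_left h).eq)
  have haB' : a ∉ B := fun h => hya (hyB a h)
  set d := y⁻¹ * (a * y * a⁻¹) with hd
  have hd1 : d ≠ 1 := fun h => hya (by
    rw [hd, inv_mul_eq_one] at h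
    exact (mul_inv_eq_iff_eq_mul.1 h.symm))
  have hdK : d ∈ K := mul_mem (inv_mem hyK) ((mem_normalizer_iff.1 (hAK ha) y).1 hyK)
  have hda : a * d * a⁻¹ = d⁻¹ := by
    rw [hd, hai, mul_inv_rev, mul_inv_rev, mul_inv_rev, inv_inv, hai]
    simp [mul_assoc, hsq a ha]
  have hdB : ∀ b ∈ B, Commute b d := fun b hb =>
    (show Commute b y from hyB b hb).inv_right.mul_right
      (((show Commute b a from hAc b (hBA hb) a ha).mul_right (hyB b hb)).mul_right
        (show Commute b a from hAc b (hBA hb) a ha).inv_right)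
  have hdinv : ∀ x ∈ A, x ∉ B → x * d * x⁻¹ = d⁻¹ := by
    intro x hx hxB
    rcases hsplit x hx with hb | ⟨b, hb, rfl⟩
    · exact absurd hb hxB
    · calc b * a * d * (b * a)⁻¹ = b * (a * d * a⁻¹) * b⁻¹ := by group
        _ = d⁻¹ := by rw [hda, (hdB b hb).inv_right.eq, mul_inv_cancel_right]
  have hlt : Nat.card B < n := by
    rw [← hn]
    exact lt_of_le_of_ne (card_le_of_le hBA) fun h =>
      haB' ((eq_of_le_of_card_ge hBA h.ge).ge ha)
  obtain ⟨f₁, hf₁, hreg⟩ := ih _ hlt B rfl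
    ⟨⟨⟨fun u v => Subtype.ext (hAc u (hBA u.2) v (hBA v.2))⟩⟩, fun b hb => hA.2 b (hBA hb)⟩
    (hBA.trans hAK) fun b hb => hfaith b (hBA hb)
  by_cases hgood : ∀ x ∈ A, Commute x f₁ → x = 1
  · exact ⟨f₁, hf₁, hgood⟩
  push Not at hgood
  obtain ⟨c, hcA, hcf, hc1⟩ := hgood
  have hcB : c ∉ B := fun h => hc1 (hreg c h hcf)
  refine ⟨f₁ * d, mul_mem hf₁ hdK, fun x hx hxf => ?_⟩
  by_cases hxB : x ∈ B
  · refine hreg x hxB ?_
    have := hxf.mul_right (hdB x hxB).inv_right
    rwa [mul_inv_cancel_right] at this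
  exfalso
  obtain ⟨e, he, hxe⟩ : ∃ e ∈ B, x = e * c := by
    refine ⟨x * c, ?_, by rw [mul_assoc, hsq c hcA, mul_one]⟩
    rcases hsplit x hx with hb | ⟨b₁, hb₁, rfl⟩
    · exact absurd hb hxB
    rcases hsplit c hcA with hb | ⟨b₂, hb₂, rfl⟩
    · exact absurd hb hcB
    rw [show b₁ * a * (b₂ * a) = b₁ * b₂ by
      rw [← mul_assoc, mul_assoc b₁, hAc a ha b₂ (hBA hb₂), ← mul_assoc, mul_assoc, hsq a ha,
        mul_one]]
    exact mul_mem hb₁ hb₂
  have h1 : x * (f₁ * d) * x⁻¹ = f₁ * d := by rw [hxf.eq, mul_inv_cancel_right]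
  have h2 : e * f₁ * e⁻¹ = f₁ * d * d := by
    have h3 : x * (f₁ * d) * x⁻¹ = e * f₁ * e⁻¹ * d⁻¹ := by
      calc x * (f₁ * d) * x⁻¹ = e * (c * f₁ * c⁻¹) * e⁻¹ * (e * (c * d * c⁻¹) * e⁻¹) := by
            rw [hxe]; group
        _ = e * f₁ * e⁻¹ * d⁻¹ := by
            rw [hcf.eq, mul_inv_cancel_right, hdinv c hcA hcB, (hdB e he).inv_right.eq,
              mul_inv_cancel_right]
    rw [h1] at h3
    rw [h3, inv_mul_cancel_right]
  have h4 : f₁ = f₁ * d ^ 4 := by
    have he2 := hsq e (hBA he)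
    have h6 : f₁ = e * (e * f₁ * e⁻¹) * e⁻¹ := by
      rw [inv_eq_of_mul_eq_one_left he2]
      simp only [← mul_assoc, he2, one_mul]
      rw [mul_assoc, he2, mul_one]
    have h7 : e * (f₁ * d * d) * e⁻¹ = e * f₁ * e⁻¹ * (e * d * e⁻¹) * (e * d * e⁻¹) := by group
    calc f₁ = e * (e * f₁ * e⁻¹) * e⁻¹ := h6
      _ = e * (f₁ * d * d) * e⁻¹ := by rw [h2]
      _ = f₁ * d * d * d * d := by rw [h7, h2, (hdB e he).eq, mul_inv_cancel_right]
      _ = f₁ * d ^ 4 := by simp only [pow_succ, pow_zero, one_mul, mul_assoc]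
  have h5 : d ^ 4 = 1 := by
    have := mul_left_cancel (a := f₁) (h4.symm.trans (mul_one f₁).symm)
    exact this
  have ho : d ^ Nat.card K = 1 := congrArg Subtype.val (pow_card_eq_one' (x := (⟨d, hdK⟩ : K)))
  refine hd1 (eq_one_of_sq_of_odd ?_ hK ho)
  refine eq_one_of_sq_of_odd (by rw [← pow_mul]; exact h5) hK ?_
  rw [← pow_mul, mul_comm, pow_mul, ho, one_pow]

/-- Some conjugate of `W` is in general position with respect to `W` modulo `ker2 V`. -/
theorem exists_conj (hfree : Free X) (V : Subgroup X) [V.Normal] (W : Subgroup X)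
    (hW : Cfsg.IsElementaryAbelian 2 W) :
    ∃ g : X, (∀ K : Subgroup X, W ≤ normalizer (K : Set X) →
        W.map (MulAut.conj g).toMonoidHom ≤ normalizer (K : Set X) →
        (∀ x ∈ K, ∃ n : ℕ, x ^ 2 ^ n ∈ centralizer (V : Set X)) →
        W ⊓ K ≤ ker2 V ∧ W.map (MulAut.conj g).toMonoidHom ⊓ K ≤ ker2 V) ∧
      ∃ P : Subgroup X, P.Normal ∧
        W.map (MulAut.conj g).toMonoidHom ≤ (P ⊓ (W ⊔ W.map (MulAut.conj g).toMonoidHom)) ⊔ W ∧
        ∀ x ∈ P, ∃ m : ℕ, Odd m ∧ x ^ m ∈ ker2 V := by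
  classical
  haveI := hfree.1
  haveI : Fact (Nat.Prime 2) := ⟨Nat.prime_two⟩
  let π := QuotientGroup.mk' (ker2 V)
  have hO : Cfsg.pCore 2 (X ⧸ ker2 V) = ⊥ := by
    have h : (Cfsg.pCore 2 (X ⧸ ker2 V)).comap π ≤ ker2 V := le_ker2 fun x hx => by
      obtain ⟨m, hm⟩ := PLocal.isPGroup_pCore 2 (X ⧸ ker2 V) ⟨_, hx⟩
      have hm' : x ^ 2 ^ m ∈ ker2 V := by
        refine (QuotientGroup.eq_one_iff _).1 ?_
        rw [QuotientGroup.mk_pow]
        exact congrArg Subtype.val hm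
      obtain ⟨n, hn⟩ := ker2_pow hm'
      exact ⟨m + n, by rwa [pow_add, pow_mul]⟩
    rw [eq_bot_iff]
    intro z hz
    obtain ⟨x, rfl⟩ := QuotientGroup.mk'_surjective (ker2 V) z
    exact mem_bot.2 ((QuotientGroup.eq_one_iff x).2 (h hz))
  set F := Cfsg.pPrimeCore 2 (X ⧸ ker2 V) with hF
  have hFodd : Odd (Nat.card F) :=
    Nat.coprime_two_right.1 (PLocal.coprime_card_pPrimeCore 2 _)
  have hcon : centralizer (F : Set (X ⧸ ker2 V)) ≤ F :=
    PLocal.centralizer_pPrimeCore_le PLocal.isPSolvable_of_isSolvable hO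
  have hWel : Cfsg.IsElementaryAbelian 2 (W.map π) := by
    refine ⟨⟨⟨?_⟩⟩, ?_⟩
    · rintro ⟨_, u, hu, rfl⟩ ⟨_, v, hv, rfl⟩
      refine Subtype.ext ?_
      show π u * π v = π v * π u
      rw [← map_mul, ← map_mul]
      exact congrArg π (congrArg Subtype.val (hW.1.is_comm.comm ⟨u, hu⟩ ⟨v, hv⟩))
    · rintro _ ⟨u, hu, rfl⟩
      rw [← map_pow, hW.2 u hu, map_one]
  obtain ⟨f, hf, hreg⟩ := exists_regular F hFodd _ (W.map π) rfl hWel
    (le_top.trans (normalizer_eq_top F).ge) fun a ha hcomm => by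
      have haF : a ∈ F := hcon fun k hk => ((hcomm k hk).eq).symm
      exact eq_one_of_sq_of_odd (hWel.2 a ha) hFodd
        (congrArg Subtype.val (pow_card_eq_one' (x := (⟨a, haF⟩ : F))))
  obtain ⟨g, rfl⟩ := QuotientGroup.mk'_surjective (ker2 V) f
  refine ⟨g, ?_, F.comap π, inferInstance, ?_, fun x hx => ⟨_, hFodd, ?_⟩⟩
  · intro K hnW hnW' hK
    have hKp : IsPGroup 2 (K.map π) := by
      rintro ⟨_, x, hx, rfl⟩
      obtain ⟨n, hn⟩ := hK x hx
      refine ⟨n, Subtype.ext ?_⟩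
      rw [SubgroupClass.coe_pow, ← map_pow, OneMemClass.coe_one]
      exact (QuotientGroup.eq_one_iff _).2 (centralizer_le_ker2 V hn)
    -- if `w` or its conjugate lies in `K`, the commutator of their images is a 2-element of odd order
    have key : ∀ w ∈ W, w ∈ K ∨ g * w * g⁻¹ ∈ K → w ∈ ker2 V := by
      intro w hw hcase
      have hw2 : w * w = 1 := by rw [← sq]; exact hW.2 w hw
      have hwi : w⁻¹ = w := inv_eq_of_mul_eq_one_left hw2
      have hcK : (g * w * g⁻¹ * w) * (g * w * g⁻¹ * w) ∈ K := by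
        have hg : (g * w * g⁻¹) * (g * w * g⁻¹) = 1 := by simp [mul_assoc, ← mul_assoc w w, hw2]
        have hgi : (g * w * g⁻¹)⁻¹ = g * w * g⁻¹ := inv_eq_of_mul_eq_one_left hg
        rcases hcase with h | h
        · have h1 := (mem_normalizer_iff.1 (hnW' ⟨w, hw, rfl⟩) w).1 h
          rw [show (MulAut.conj g).toMonoidHom w = g * w * g⁻¹ from rfl, hgi] at h1
          rw [← mul_assoc]
          exact mul_mem h1 h
        · have h1 := (mem_normalizer_iff.1 (hnW hw) _).1 h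
          rw [hwi] at h1
          have := mul_mem h h1
          simpa [mul_assoc] using this
      set c := π g * π w * (π g)⁻¹ * π w with hc
      have hcF : c ∈ F := by
        have : c = π g * (π w * (π g)⁻¹ * (π w)⁻¹) := by
          rw [hc, ← map_inv π w, hwi]; group
        rw [this]
        exact mul_mem hf ((inferInstance : F.Normal).conj_mem _ (inv_mem hf) (π w))
      have hcc : c * c = π ((g * w * g⁻¹ * w) * (g * w * g⁻¹ * w)) := by
        simp only [map_mul, map_inv, hc]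
      obtain ⟨n, hn⟩ := hKp ⟨_, mem_map_of_mem π hcK⟩
      have hn' : (c * c) ^ 2 ^ n = 1 := hcc ▸ congrArg Subtype.val hn
      have hco : c ^ Nat.card F = 1 :=
        congrArg Subtype.val (pow_card_eq_one' (x := (⟨c, hcF⟩ : F)))
      have hc1 : c = 1 := by
        have h2 : orderOf c ∣ 2 ^ (n + 1) := by
          refine orderOf_dvd_of_pow_eq_one ?_
          rw [pow_succ', pow_mul, sq]; exact hn'
        have h3 : orderOf c ∣ Nat.card F := orderOf_dvd_of_pow_eq_one hco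
        refine orderOf_eq_one_iff.1 (Nat.eq_one_of_dvd_coprimes ?_ h2 h3)
        exact (Nat.coprime_two_left.2 hFodd).pow_left _
      have hcomm : Commute (π w) (π g) := by
        have hpi : (π w)⁻¹ = π w := by rw [← map_inv, hwi]
        rw [hc, mul_eq_one_iff_eq_inv, hpi, mul_inv_eq_iff_eq_mul] at hc1
        exact hc1.symm
      exact (QuotientGroup.eq_one_iff w).1 (hreg _ (mem_map_of_mem π hw) hcomm)
    refine ⟨fun w hw => key w hw.1 (Or.inl hw.2), ?_⟩
    rintro _ ⟨⟨w, hw, rfl⟩, hwK⟩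
    exact (ker2_normal V).conj_mem w (key w hw (Or.inr hwK)) g
  · rintro _ ⟨w, hw, rfl⟩
    have h : MulAut.conj g w = (g * w * g⁻¹ * w⁻¹) * w := by simp [mul_assoc]
    show MulAut.conj g w ∈ _
    rw [h]
    refine mul_mem_sup ⟨?_, ?_⟩ hw
    · show π (g * w * g⁻¹ * w⁻¹) ∈ F
      rw [show g * w * g⁻¹ * w⁻¹ = g * (w * g⁻¹ * w⁻¹) by group, map_mul]
      refine mul_mem hf ?_
      rw [map_mul, map_mul, map_inv, map_inv]
      exact (inferInstance : F.Normal).conj_mem _ (inv_mem hf) (π w)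
    · exact mul_mem (mem_sup_right ⟨w, hw, rfl⟩) (mem_sup_left (inv_mem hw))
  · refine (QuotientGroup.eq_one_iff _).1 ?_
    rw [QuotientGroup.mk_pow]
    exact congrArg Subtype.val (pow_card_eq_one' (x := (⟨_, hx⟩ : F)))

end CfsgLib.PrimitivePairTwo
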