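import Cfsg.Agent.PrimitivePairTwo.Core
import Cfsg.Agent.PrimitivePairTwo.Regular

/-!
# Quadratic subgroups acting on a module without small offenders

Main results: `key` (the index `|W : C_W(V)|` is at most `|V : C_V(W)|`, with equality only when
`W` acts unipotently) and `commutator_bound`.
-/

set_option autoImplicit false
set_option linter.style.haveILetI false
set_option linter.unusedSectionVars false

universe u

namespace CfsgLib.PrimitivePairTwo

open Subgroup
open scoped commutatorElement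

variable {X : Type u} [Group X] [Finite X]

theorem centralizer_subgroupOf {A D : Subgroup X} (h : A ≤ D) :
    centralizer (A.subgroupOf D : Set D) = (centralizer (A : Set X)).subgroupOf D := by
  ext x
  constructor
  · intro hx a ha
    exact congrArg Subtype.val (hx ⟨a, h ha⟩ ha)
  · intro hx a ha
    exact Subtype.ext (hx (a : X) ha)

/-- `W`, a conjugate in general position, and the subgroup they generate. -/
structure Setup (V W W' D : Subgroup X) [V.Normal] : Prop where
  conj : ∃ g : X, W' = W.map (MulAut.conj g).toMonoidHom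
  hV : V ≤ D
  hW : W ≤ D
  hW' : W' ≤ D
  config : Config (V.subgroupOf D) (W.subgroupOf D) (W'.subgroupOf D)
  inf_ker : W.subgroupOf D ⊓ ker2 (V.subgroupOf D) = (W ⊓ ker2 V).subgroupOf D
  rr_eq : rr (V.subgroupOf D) (W.subgroupOf D) (W'.subgroupOf D) = ((ker2 V).relIndex W ^ 2) ^ 2
  odd : ∃ P : Subgroup D, P.Normal ∧ W'.subgroupOf D ≤ P ⊔ W.subgroupOf D ∧
    ∀ x ∈ P, ∃ m : ℕ, Odd m ∧ x ^ m ∈ ker2 (V.subgroupOf D)

theorem exists_setup (hfree : Free X) {V W : Subgroup X} [V.Normal]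
    (hV : Cfsg.IsElementaryAbelian 2 V) (hW : Cfsg.IsElementaryAbelian 2 W)
    (hquad : ∀ v ∈ V, ∀ w ∈ W, ∀ u ∈ W, Commute ⁅v, w⁆ u) :
    ∃ W' D : Subgroup X, Setup V W W' D := by
  obtain ⟨g, hker, P, hPn, hW'P, hPodd⟩ := exists_conj hfree V W hW
  set W' := W.map (MulAut.conj g).toMonoidHom with hW'def
  set D := W ⊔ W' ⊔ centralizer (V : Set X) with hD
  have hVC : V ≤ centralizer (V : Set X) := fun v hv u hu =>
    congrArg Subtype.val (hV.1.is_comm.comm ⟨u, hu⟩ ⟨v, hv⟩)
  have hVD : V ≤ D := hVC.trans le_sup_right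
  have hWD : W ≤ D := le_sup_left.trans le_sup_left
  have hW'D : W' ≤ D := le_sup_right.trans le_sup_left
  haveI := hPn
  have hel : ∀ A : Subgroup X, Cfsg.IsElementaryAbelian 2 A →
      Cfsg.IsElementaryAbelian 2 (A.subgroupOf D) := fun A hA =>
    ⟨⟨⟨fun a b => Subtype.ext (Subtype.ext (congrArg Subtype.val
      (hA.1.is_comm.comm ⟨(a : D), a.2⟩ ⟨(b : D), b.2⟩) :))⟩⟩, fun a ha => Subtype.ext (hA.2 _ ha)⟩
  have hW'el : Cfsg.IsElementaryAbelian 2 W' := isElementaryAbelian_map _ hW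
  have hquad' : ∀ v ∈ V, ∀ w ∈ W', ∀ u ∈ W', Commute ⁅v, w⁆ u := by
    rintro v hv _ ⟨w, hw, rfl⟩ _ ⟨u, hu, rfl⟩
    have hv' : g⁻¹ * v * g ∈ V := by simpa using (inferInstance : V.Normal).conj_mem v hv g⁻¹
    have h := (hquad _ hv' w hw u hu).map (MulAut.conj g).toMonoidHom
    rw [map_commutatorElement] at h
    simpa [mul_assoc] using h
  -- the kernel in `D`
  set K := (ker2 (V.subgroupOf D)).map D.subtype with hK
  have hKn : D ≤ normalizer (K : Set X) := by
    intro d hd
    rw [mem_normalizer_iff]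
    intro x
    constructor
    · rintro ⟨y, hy, rfl⟩
      exact ⟨⟨d, hd⟩ * y * ⟨d, hd⟩⁻¹, (ker2_normal _).conj_mem y hy _, rfl⟩
    · rintro ⟨y, hy, hxy⟩
      refine ⟨⟨d, hd⟩⁻¹ * y * ⟨d, hd⟩, ?_, ?_⟩
      · simpa using (ker2_normal (V.subgroupOf D)).conj_mem y hy ⟨d, hd⟩⁻¹
      · show d⁻¹ * (D.subtype y) * d = x
        rw [hxy]; group
  have hKpow : ∀ x ∈ K, ∃ n : ℕ, x ^ 2 ^ n ∈ centralizer (V : Set X) := by
    rintro _ ⟨y, hy, rfl⟩
    obtain ⟨n, hn⟩ := ker2_pow hy
    rw [centralizer_subgroupOf hVD] at hn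
    refine ⟨n, ?_⟩
    rw [← map_pow]
    exact hn
  have hKle : (ker2 V).subgroupOf D ≤ ker2 (V.subgroupOf D) := le_ker2 fun x hx => by
    obtain ⟨n, hn⟩ := ker2_pow (show (x : X) ∈ ker2 V from hx)
    refine ⟨n, ?_⟩
    rw [centralizer_subgroupOf hVD, mem_subgroupOf, SubgroupClass.coe_pow]
    exact hn
  obtain ⟨hk1, hk2⟩ := hker K (hWD.trans hKn) (hW'D.trans hKn) hKpow
  have hinf : ∀ U : Subgroup X, U ⊓ K ≤ ker2 V →
      U.subgroupOf D ⊓ ker2 (V.subgroupOf D) = (U ⊓ ker2 V).subgroupOf D := by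
    intro U hU
    refine le_antisymm (fun x hx => ?_) fun x hx => ?_
    · have hxU : (x : X) ∈ U := hx.1
      exact ⟨hxU, hU ⟨hxU, ⟨x, hx.2, rfl⟩⟩⟩
    · have hxU : (x : X) ∈ U ⊓ ker2 V := hx
      exact ⟨hxU.1, hKle hxU.2⟩
  have hrel : ∀ U : Subgroup X, U ≤ D → U ⊓ K ≤ ker2 V →
      (ker2 (V.subgroupOf D)).relIndex (U.subgroupOf D) = (ker2 V).relIndex U := by
    intro U hUD hU
    rw [← inf_relIndex_left, hinf U hU, relIndex_subgroupOf hUD, inf_relIndex_left]
  refine ⟨W', D, ⟨g, rfl⟩, hVD, hWD, hW'D,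
    ⟨hel V hV, hel W hW, hel W' hW'el, ?_, ?_, ?_⟩, hinf W hk1, ?_, ?_⟩
  · rw [centralizer_subgroupOf hVD, ← subgroupOf_sup hWD hW'D,
      ← subgroupOf_sup (sup_le hWD hW'D) (le_sup_right : centralizer (V : Set X) ≤ D), ← hD,
      subgroupOf_self]
  · intro v hv w hw u hu
    exact Subtype.ext (hquad _ hv _ hw _ hu)
  · intro v hv w hw u hu
    exact Subtype.ext (hquad' _ hv _ hw _ hu)
  · have e : (ker2 V).relIndex W' = (ker2 V).relIndex W := by
      conv_lhs => rw [show ker2 V = (ker2 V).map (MulAut.conj g).toMonoidHom from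
        ((mem_normalizer_iff_map_conj_eq).1 (normalizer_eq_top (H := ker2 V) ▸ mem_top g)).symm]
      exact relIndex_map_map_of_injective _ _ (MulAut.conj g).injective
    unfold rr
    rw [hrel W hWD hk1, hrel W' hW'D hk2, e]
    ring
  · refine ⟨P.subgroupOf D, inferInstance, ?_, fun x hx => ?_⟩
    · intro x hx
      have h1 : (x : X) ∈ (P ⊓ D) ⊔ W := (sup_le_sup_right (inf_le_inf_left P (sup_le hWD hW'D)) W) (hW'P hx)
      have h2 := mem_subgroupOf.2 h1
      rwa [subgroupOf_sup inf_le_right hWD, inf_subgroupOf_right] at h2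
    · obtain ⟨m, hm, hxm⟩ := hPodd (x : X) hx
      exact ⟨m, hm, hKle (show ((x ^ m : D) : X) ∈ ker2 V from (SubgroupClass.coe_pow x m).symm ▸ hxm)⟩

theorem relIndex_fixed_conj {V W : Subgroup X} [V.Normal] (g : X) :
    (V ⊓ centralizer ((W.map (MulAut.conj g).toMonoidHom : Subgroup X) : Set X)).relIndex V =
      (V ⊓ centralizer (W : Set X)).relIndex V := by
  have hVc : V.map (MulAut.conj g).toMonoidHom = V :=
    (mem_normalizer_iff_map_conj_eq).1 (normalizer_eq_top (H := V) ▸ mem_top g)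
  have h1 : centralizer ((W.map (MulAut.conj g).toMonoidHom : Subgroup X) : Set X) =
      (centralizer (W : Set X)).map (MulAut.conj g).toMonoidHom := by
    ext x
    constructor
    · intro hx
      refine ⟨g⁻¹ * x * g, fun w hw => ?_, by simp [mul_assoc]⟩
      have := hx _ ⟨w, hw, rfl⟩
      calc w * (g⁻¹ * x * g) = g⁻¹ * ((g * w * g⁻¹) * x) * g := by group
        _ = g⁻¹ * (x * (g * w * g⁻¹)) * g := by rw [show (g * w * g⁻¹) * x = x * (g * w * g⁻¹) from this]
        _ = g⁻¹ * x * g * w := by group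
    · rintro ⟨y, hy, rfl⟩ _ ⟨w, hw, rfl⟩
      rw [← map_mul, ← map_mul, hy w hw]
  conv_lhs => rw [h1, ← hVc, ← map_inf_eq _ _ _ (MulAut.conj g).injective]
  exact relIndex_map_map_of_injective _ _ (MulAut.conj g).injective

theorem SQ.subgroupOf {N V : Subgroup X} (h : SQ N V) {D : Subgroup X} (hV : V ≤ D) :
    SQ (N.subgroupOf D) (V.subgroupOf D) := by
  intro A hA hsq hcom
  rw [centralizer_subgroupOf hV] at hsq hcom ⊢
  have hA' : (A.map D.subtype).subgroupOf D = A :=
    comap_map_eq_self_of_injective D.subtype_injective A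
  have h1 := h (A.map D.subtype) (map_le_iff_le_comap.2 hA) (by
    rintro _ ⟨a, ha, rfl⟩
    rw [← map_pow]; exact hsq a ha) (by
    rintro _ ⟨a, ha, rfl⟩ _ ⟨b, hb, rfl⟩
    rw [← map_commutatorElement]; exact hcom a ha b hb)
  rw [← hA', centralizer_subgroupOf (map_subtype_le A), relIndex_subgroupOf (map_subtype_le A),
    show V.subgroupOf D ⊓ (centralizer (A.map D.subtype : Set X)).subgroupOf D =
      (V ⊓ centralizer (A.map D.subtype : Set X)).subgroupOf D from (comap_inf ..).symm,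
    relIndex_subgroupOf hV]
  exact h1

/-- **Key inequality.** -/
theorem key (hfree : Free X) {V W N : Subgroup X} [V.Normal] [N.Normal]
    (hV : Cfsg.IsElementaryAbelian 2 V) (hW : Cfsg.IsElementaryAbelian 2 W)
    (hquad : ∀ v ∈ V, ∀ w ∈ W, ∀ u ∈ W, Commute ⁅v, w⁆ u) (hN : IsPGroup 2 N) (hSQ : SQ N V)
    (hW0 : W ⊓ ker2 V ≤ N) :
    (centralizer (V : Set X)).relIndex W ≤ (V ⊓ centralizer (W : Set X)).relIndex V ∧
      (¬ W ≤ ker2 V →
        (centralizer (V : Set X)).relIndex W < (V ⊓ centralizer (W : Set X)).relIndex V) := by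
  set W₀ := W ⊓ ker2 V with hW₀
  set a := (ker2 V).relIndex W with ha
  set e := (centralizer (V : Set X)).relIndex W₀ with he
  set x := (V ⊓ centralizer (W : Set X)).relIndex V with hx
  set y := (V ⊓ centralizer (W₀ : Set X)).relIndex V with hy
  have hae : (centralizer (V : Set X)).relIndex W = e * a := by
    rw [he, ha, ← inf_relIndex_left W (ker2 V), ← hW₀, ← inf_relIndex_left W (centralizer (V : Set X)),
      ← relIndex_mul_relIndex (W ⊓ centralizer (V : Set X)) W₀ W
        (inf_le_inf_left W (centralizer_le_ker2 V)) inf_le_left]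
    congr 1
    rw [inf_comm, ← inf_relIndex_right (centralizer (V : Set X)) W₀]
    congr 1
    refine le_antisymm (fun z hz => ⟨hz.1, hz.2, centralizer_le_ker2 V hz.1⟩) fun z hz => ⟨hz.1, hz.2.1⟩
  have hey : e ^ 2 ≤ y := hSQ W₀ hW0 (fun z hz => by rw [hW.2 z hz.1]; exact one_mem _)
    fun z hz z' hz' => by
      rw [commutatorElement_eq_one_iff_mul_comm.2
        (congrArg Subtype.val (hW.1.is_comm.comm ⟨z, hz.1⟩ ⟨z', hz'.1⟩))]
      exact one_mem _
  have hyx : y ≤ x := relIndex_le_of_le_left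
    (inf_le_inf_left V (centralizer_le (show (W₀ : Set X) ⊆ W from fun z hz => hz.1)))
    index_ne_zero_of_finite
  have hepos : 0 < e := Nat.pos_of_ne_zero index_ne_zero_of_finite
  have hapos : 0 < a := Nat.pos_of_ne_zero index_ne_zero_of_finite
  rw [hae]
  rcases eq_or_ne a 1 with h1 | h1
  · refine ⟨by rw [h1, mul_one]; nlinarith, fun h => absurd (relIndex_eq_one.1 h1) h⟩
  obtain ⟨W', D, hS⟩ := exists_setup hfree hV hW hquad
  obtain ⟨g, hg⟩ := hS.conj
  set Vd := V.subgroupOf D with hVd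
  set Ed := Vd ⊓ centralizer (W.subgroupOf D : Set D) ⊓ centralizer (W'.subgroupOf D : Set D) with hEd
  have hEfix : ∀ v ∈ Ed, ∀ z : D, Commute v z := fun v hv z =>
    hS.config.commute_of hv.1.1 hv.1.2 hv.2 z
  haveI : Ed.Normal := ⟨fun v hv z => by rw [← (hEfix v hv z).eq, mul_inv_cancel_right]; exact hv⟩
  have hlow : (a ^ 2) ^ 2 ≤ Ed.relIndex Vd :=
    hS.rr_eq ▸ rr_le_fixed (hfree.subgroup D) (inf_le_left.trans inf_le_left) hS.config hEfix
  have hup : Ed.relIndex Vd ≤ x * x := by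
    have h : Ed = (V ⊓ centralizer (W : Set X) ⊓ (V ⊓ centralizer (W' : Set X))).subgroupOf D := by
      rw [hEd, centralizer_subgroupOf hS.hW, centralizer_subgroupOf hS.hW']
      ext z
      exact ⟨fun h => ⟨⟨h.1.1, h.1.2⟩, h.1.1, h.2⟩, fun h => ⟨⟨h.1.1, h.1.2⟩, h.2.2⟩⟩
    rw [h, relIndex_subgroupOf hS.hV]
    refine relIndex_inf_le.trans (le_of_eq ?_)
    rw [hg, relIndex_fixed_conj g]
  have hax : a ^ 2 ≤ x := by
    rw [← sq] at hup
    exact (Nat.pow_le_pow_iff_left two_ne_zero).1 (hlow.trans hup)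
  have hle : e * a ≤ x := by
    refine (Nat.pow_le_pow_iff_left two_ne_zero).1 ?_
    rw [mul_pow, sq x]
    exact Nat.mul_le_mul (hey.trans hyx) hax
  refine ⟨hle, fun _ => lt_of_le_of_ne hle fun heq => ?_⟩
  have hea : e = a := by
    have h2 : e ≤ a := by
      by_contra h
      have : e * a < e * e := Nat.mul_lt_mul_of_pos_left (not_le.1 h) hepos
      nlinarith
    have h3 : a ≤ e := by
      by_contra h
      have : e * a < a * a := Nat.mul_lt_mul_of_pos_right (not_le.1 h) hapos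
      nlinarith
    exact le_antisymm h2 h3
  have hxy : y = x := le_antisymm hyx (by rw [← heq, ← hea, ← sq]; exact hey)
  have hfixX : V ⊓ centralizer (W₀ : Set X) ≤ centralizer (W : Set X) := by
    have hle' : V ⊓ centralizer (W : Set X) ≤ V ⊓ centralizer (W₀ : Set X) :=
      inf_le_inf_left V (centralizer_le (show (W₀ : Set X) ⊆ W from fun z hz => hz.1))
    have hm := relIndex_mul_relIndex _ _ V hle' inf_le_left
    rw [← hx, ← hy, hxy] at hm
    have h1' := relIndex_eq_one.1 (Nat.eq_of_mul_eq_mul_right (Nat.pos_of_ne_zero index_ne_zero_of_finite)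
      (hm.trans (one_mul x).symm))
    exact h1'.trans inf_le_right
  refine core_false (hfree.subgroup D) (N := N.subgroupOf D) hS.config
    (hN.comap_of_injective D.subtype D.subtype_injective) (hSQ.subgroupOf hS.hV) ?_ ?_ hS.odd ?_ ?_
  · rw [hS.inf_ker]
    exact fun z hz => hW0 hz
  · rw [hS.inf_ker, centralizer_subgroupOf (inf_le_left.trans hS.hW), centralizer_subgroupOf hS.hW]
    exact fun z hz => hfixX ⟨hz.1, hz.2⟩
  · rw [hS.rr_eq]
    refine hup.trans (le_of_eq ?_)
    rw [← heq, hea]; ring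
  · have h : (ker2 (V.subgroupOf D)).relIndex (W.subgroupOf D) = a := by
      rw [← inf_relIndex_left, hS.inf_ker, relIndex_subgroupOf hS.hW, inf_relIndex_left]
    rw [h]; omega

/-- The commutators with `W` and a conjugate in general position are large. -/
theorem commutator_bound (hfree : Free X) {V W U : Subgroup X} [V.Normal]
    (hV : Cfsg.IsElementaryAbelian 2 V) (hW : Cfsg.IsElementaryAbelian 2 W) (hUV : U ≤ V)
    (hUW : U ≤ centralizer (W : Set X)) (hcomm : ∀ v ∈ V, ∀ w ∈ W, ⁅v, w⁆ ∈ U) :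
    ∃ g : X, ((ker2 V).relIndex W ^ 2) ^ 2 ≤
      (U ⊓ centralizer ((W.map (MulAut.conj g).toMonoidHom : Subgroup X) : Set X)).relIndex U *
        ((U.map (MulAut.conj g).toMonoidHom) ⊓ centralizer (W : Set X)).relIndex
          (U.map (MulAut.conj g).toMonoidHom) := by
  obtain ⟨W', D, hS⟩ := exists_setup hfree hV hW fun v hv w hw u hu =>
    (hUW (hcomm v hv w hw) u hu).symm
  obtain ⟨g, rfl⟩ := hS.conj
  refine ⟨g, ?_⟩
  set W' := W.map (MulAut.conj g).toMonoidHom
  set U' := U.map (MulAut.conj g).toMonoidHom with hU'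
  have hU'V : U' ≤ V := by
    rintro _ ⟨v, hv, rfl⟩; exact (inferInstance : V.Normal).conj_mem v (hUV hv) g
  have hU'W : U' ≤ centralizer (W' : Set X) := by
    rintro _ ⟨v, hv, rfl⟩ _ ⟨w, hw, rfl⟩
    rw [← map_mul, ← map_mul, hUW hv w hw]
  have hcomm' : ∀ v ∈ V, ∀ w ∈ W', ⁅v, w⁆ ∈ U' := by
    rintro v hv _ ⟨w, hw, rfl⟩
    refine ⟨⁅g⁻¹ * v * g, w⁆, hcomm _ (by simpa using (inferInstance : V.Normal).conj_mem v hv g⁻¹) w hw, ?_⟩
    rw [map_commutatorElement]
    simp [mul_assoc]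
  set M := U ⊔ U' with hM
  have hMV : M ≤ V := sup_le hUV hU'V
  have hMnorm : ∀ A : Subgroup X, (∀ v ∈ V, ∀ a ∈ A, ⁅v, a⁆ ∈ M) → A ≤ normalizer (M : Set X) := by
    intro A h
    rw [le_normalizer_iff_commutator_le_left]
    exact commutator_le.2 fun v hv a ha => h v (hMV hv) a ha
  set Md := M.subgroupOf D with hMd
  have hc := hS.config
  have hMdV : Md ≤ V.subgroupOf D := fun z hz => hMV hz
  haveI hMn : Md.Normal := hc.normal_of_le hMdV
    (by
      intro z hz
      have := hMnorm W (fun v hv a ha => mem_sup_left (hcomm v hv a ha)) hz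
      exact mem_normalizer_iff.2 fun w => (mem_normalizer_iff.1 this) (w : X))
    (by
      intro z hz
      have := hMnorm W' (fun v hv a ha => mem_sup_right (hcomm' v hv a ha)) hz
      exact mem_normalizer_iff.2 fun w => (mem_normalizer_iff.1 this) (w : X))
  -- the quotient by `M` is centralized
  have htriv : secC (V.subgroupOf D) Md = ⊤ := by
    rw [eq_top_iff, ← hc.gen]
    refine sup_le (sup_le ?_ ?_) (centralizer_le_secC _ _)
    · exact fun z hz => mem_secC.2 fun v hv => mem_sup_left (hcomm _ hv _ hz)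
    · exact fun z hz => mem_secC.2 fun v hv => mem_sup_right (hcomm' _ hv _ hz)
  have hr : rr (V.subgroupOf D) (W.subgroupOf D) (W'.subgroupOf D) ≤
      rr Md (W.subgroupOf D) (W'.subgroupOf D) := by
    have hle : ker2 Md ≤ ker2 (V.subgroupOf D) := by
      refine le_trans (le_inf le_rfl fun x _ => ?_) (ker2_series hMdV hc.vel)
      exact mem_comap.2 (centralizer_le_ker2 _ (mem_comap.1 (htriv.ge (mem_top x))))
    unfold rr
    exact Nat.pow_le_pow_left (Nat.mul_le_mul
      (relIndex_le_of_le_left hle index_ne_zero_of_finite)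
      (relIndex_le_of_le_left hle index_ne_zero_of_finite)) 2
  set A := U ⊓ centralizer (W' : Set X) with hA
  set B := U' ⊓ centralizer (W : Set X) with hB
  set E := A ⊔ B with hE
  have hEM : E ≤ M := sup_le_sup inf_le_left inf_le_left
  have hEc : ∀ v ∈ E.subgroupOf D, ∀ z : D, Commute v z := by
    intro v hv
    have hle : E ≤ centralizer (W : Set X) ⊓ centralizer (W' : Set X) :=
      sup_le (le_inf (inf_le_left.trans hUW) inf_le_right) (le_inf inf_le_right (inf_le_left.trans hU'W))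
    refine hc.commute_of (hMdV (show v ∈ Md from hEM hv)) ?_ ?_
    · rw [centralizer_subgroupOf hS.hW]; exact (hle hv).1
    · rw [centralizer_subgroupOf hS.hW']; exact (hle hv).2
  haveI : (E.subgroupOf D).Normal :=
    ⟨fun v hv z => by rw [← (hEc v hv z).eq, mul_inv_cancel_right]; exact hv⟩
  have hfix := rr_le_fixed (hfree.subgroup D) (fun z hz => hEM hz) (hc.sub hMdV) hEc
  rw [relIndex_subgroupOf (hMV.trans hS.hV)] at hfix
  refine hS.rr_eq ▸ (hr.trans (hfix.trans ?_))
  -- counting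
  have hcl : ∀ S T : Subgroup X, S ≤ V → T ≤ V → S ≤ normalizer (T : Set X) := fun S T hS hT x hx =>
    centralizer_le_normalizer _ (show x ∈ centralizer (T : Set X) from fun t ht =>
      congrArg Subtype.val (hV.1.is_comm.comm ⟨t, hT ht⟩ ⟨x, hS hx⟩))
  have h1 := PLocal.card_sup_mul_card_inf (A := U) (B := U') (hcl U U' hUV hU'V)
  have h2 := PLocal.card_sup_mul_card_inf (A := A) (B := B)
    (hcl A B (inf_le_left.trans hUV) (inf_le_left.trans hU'V))
  have h3 : Nat.card ↥(A ⊓ B) ≤ Nat.card ↥(U ⊓ U') :=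
    card_le_of_le (inf_le_inf inf_le_left inf_le_left)
  have h4 := PLocal.card_mul_relIndex hEM
  have h5 : Nat.card A * A.relIndex U = Nat.card U := PLocal.card_mul_relIndex inf_le_left
  have h6 : Nat.card B * B.relIndex U' = Nat.card U' := PLocal.card_mul_relIndex inf_le_left
  rw [← hM] at h1
  rw [← hE] at h2
  refine Nat.le_of_mul_le_mul_left ?_ (Nat.mul_pos (Nat.card_pos (α := E)) (Nat.card_pos (α := ↥(A ⊓ B))))
  calc Nat.card E * Nat.card ↥(A ⊓ B) * E.relIndex M = Nat.card M * Nat.card ↥(A ⊓ B) := by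
        rw [← h4]; ring
    _ ≤ Nat.card M * Nat.card ↥(U ⊓ U') := Nat.mul_le_mul_left _ h3
    _ = Nat.card U * Nat.card U' := h1
    _ = Nat.card A * Nat.card B * (A.relIndex U * B.relIndex U') := by rw [← h5, ← h6]; ring
    _ = _ := by rw [← h2]

end CfsgLib.PrimitivePairTwo
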