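import Cfsg.Agent.PrimitivePairTwo.Vertex

/-!
# Primitive pairs of characteristic 2 do not exist among solvable groups without `S₄`-section

By induction on the distance, a chosen minimal normal subgroup of each vertex of the coset graph lies
in `O₂` of every vertex.
-/

set_option autoImplicit false
set_option linter.style.haveILetI false
set_option linter.unusedSectionVars false

universe u

namespace CfsgLib.PrimitivePairTwo

open Subgroup PrimitiveStable
open scoped commutatorElement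

variable {G : Type u} [Group G] [Finite G] [hp : Fact (Nat.Prime 2)]

theorem z_elem {H Q Z : Subgroup G} (hv : Vertex 2 H Q Z) : Cfsg.IsElementaryAbelian 2 Z := by
  have hc := hv.z_comm
  let A : Subgroup G :=
    { carrier := {z | z ∈ Z ∧ z ^ 2 = 1}
      one_mem' := ⟨one_mem _, one_pow _⟩
      mul_mem' := fun {a b} ha hb => ⟨mul_mem ha.1 hb.1, by
        rw [(hc a ha.1 b hb.1).mul_pow, ha.2, hb.2, one_mul]⟩
      inv_mem' := fun {a} ha => ⟨inv_mem ha.1, by rw [inv_pow, ha.2, inv_one]⟩ }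
  have hA : A = Z := by
    refine hv.zmin A (fun z hz => hz.1) ?_ fun g hg => ?_
    · intro h
      have hdvd : 2 ∣ Nat.card Z := by
        obtain ⟨n, hn⟩ := IsPGroup.iff_card.1 (hv.q_isPGroup.to_le hv.zq)
        rw [hn]
        exact dvd_pow_self 2 fun h0 => hv.zne (card_eq_one.1 (by rw [hn, h0, pow_zero]))
      obtain ⟨z, hz⟩ := exists_prime_orderOf_dvd_card' 2 hdvd
      have hzA : (z : G) ∈ A := ⟨z.2, congrArg Subtype.val (hz ▸ pow_orderOf_eq_one z :)⟩
      rw [h, mem_bot] at hzA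
      rw [show z = 1 from Subtype.ext hzA, orderOf_one] at hz
      norm_num at hz
    · rw [mem_normalizer_iff]
      intro x
      have h1 := mem_normalizer_iff.1 (hv.zn hg) x
      show x ∈ Z ∧ x ^ 2 = 1 ↔ g * x * g⁻¹ ∈ Z ∧ (g * x * g⁻¹) ^ 2 = 1
      rw [conj_pow, conj_eq_one_iff]
      exact and_congr_left fun _ => h1
  exact ⟨⟨⟨fun a b => Subtype.ext (hc a a.2 b b.2)⟩⟩, fun a ha => (hA.ge ha).2⟩

variable {M Qs Zs : Bool → Subgroup G} (P : Pair 2 M Qs Zs)
  (hfree : ∀ b, Free ↥(M b))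
include P hfree

theorem free_vert (v : Bool × G) : Free ↥(conjS v.2 (M v.1)) :=
  (hfree v.1).equiv ((M v.1).equivMapOfInjective _ (MulAut.conj v.2).injective)

/-- All chosen minimal normal subgroups lie in all cores. -/
theorem z_le_q : ∀ (n : ℕ) (v w : Bool × G), Walk M n v w →
    conjS v.2 (Zs v.1) ≤ conjS w.2 (Qs w.1) := by
  intro n
  induction n using Nat.strong_induction_on with
  | _ n ih =>
  intro α α' hW
  let Zv : Bool × G → Subgroup G := fun v => conjS v.2 (Zs v.1)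
  let Qv : Bool × G → Subgroup G := fun v => conjS v.2 (Qs v.1)
  let Hv : Bool × G → Subgroup G := fun v => conjS v.2 (M v.1)
  have hel : ∀ v, Cfsg.IsElementaryAbelian 2 (Zv v) := fun v => z_elem (P.vert v)
  have hsq : ∀ v, ∀ A ≤ Hv v, ImgElem A (Zv v) → cidx A (Zv v) ^ 2 ≤ cidx (Zv v) A := fun v A h1 h2 =>
    square_z (P.vert v) (free_vert P hfree v) (hel v) h1 h2
  rcases n with _ | r
  · rw [← show α = α' from hW]
    exact (P.vert α).zq
  -- elements within distance `r + 1` are in the group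
  have hgrp : ∀ m ≤ r, ∀ γ γ', Walk M (m + 1) γ γ' → Zv γ ≤ Hv γ' := by
    intro m hm γ γ' h
    obtain ⟨δ, hγδ, hδ⟩ := walk_succ_right.1 h
    exact (ih m (by omega) γ δ hγδ).trans (P.q_le_adj hδ)
  have hcomm : ∀ m ≤ r, ∀ γ γ', Walk M (m + 1) γ γ' →
      ∀ u ∈ Zv γ, ∀ x ∈ Zv γ', Commute u x := by
    intro m hm γ γ' h u hu x hx
    have h1 := hsq γ (Zv γ') (hgrp m hm γ' γ h.symm) (imgElem_of_elem (hel γ') _)
    have h2 := hsq γ' (Zv γ) (hgrp m hm γ γ' h) (imgElem_of_elem (hel γ) _)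
    have h3 : cidx (Zv γ) (Zv γ') = 1 := by
      have hpos := cidx_pos (Zv γ) (Zv γ')
      have h4 : (cidx (Zv γ) (Zv γ') ^ 2) ^ 2 ≤ cidx (Zv γ) (Zv γ') :=
        (Nat.pow_le_pow_left h2 2).trans h1
      by_contra hne
      have : cidx (Zv γ) (Zv γ') ^ 1 < cidx (Zv γ) (Zv γ') ^ (2 * 2) :=
        Nat.pow_lt_pow_right (by omega) (by norm_num)
      rw [pow_one, pow_mul] at this
      omega
    exact ((mem_centralizer_iff.1 (relIndex_eq_one.1 h3 hu)) x hx).symm
  rcases r with _ | r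
  · -- adjacent
    obtain ⟨w, hadj, hw⟩ := hW
    obtain rfl : w = α' := hw
    set A := Zv α
    set Q := Qv w
    have hQα : Q ≤ Hv α := P.q_le_adj hadj.symm
    obtain ⟨h, hh, hbd⟩ := adjacent_bound (P.vert w) (free_vert P hfree w)
      (hgrp 0 le_rfl α w ⟨w, hadj, rfl⟩) (hel α) (hQα.trans (P.vert α).zn)
    set β : Bool × G := (α.1, h * α.2)
    have hadjβ : Adj M β w := by
      obtain ⟨h1, a, ha, c, hc, h2⟩ := hadj
      have hh' : w.2⁻¹ * h * w.2 ∈ M w.1 := mem_conjS.1 hh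
      refine ⟨h1, a, ha, (w.2⁻¹ * h * w.2) * c, mul_mem hh' hc, ?_⟩
      show h * α.2 * a = w.2 * (w.2⁻¹ * h * w.2 * c)
      rw [mul_assoc, h2]; group
    have hA₁ : conjS h A = Zv β := conjS_conjS h α.2 (Zs α.1)
    rw [hA₁] at hbd
    set A₁ := Zv β
    set a := Q.relIndex A with ha
    have ha₁ : Q.relIndex A₁ = a := by
      rw [← hA₁, ha]
      have hQc : conjS h Q = Q := conjS_of_mem ((P.vert w).q_norm hh)
      conv_lhs => rw [← hQc]
      exact relIndex_map_map_of_injective _ _ (MulAut.conj h).injective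
    have hQβ : Q ≤ Hv β := P.q_le_adj hadjβ.symm
    have hsplit : ∀ S B : Subgroup G, cidx S B ≤ Q.relIndex S * cidx (S ⊓ Q) B := by
      intro S B
      have e1 := relIndex_mul_relIndex (S ⊓ Q ⊓ centralizer (B : Set G)) (S ⊓ Q) S inf_le_left inf_le_left
      rw [inf_relIndex_left, inf_relIndex_left] at e1
      rw [mul_comm, cidx, cidx, e1, ← inf_relIndex_left S]
      exact relIndex_le_of_le_left (le_inf (inf_le_left.trans inf_le_left) inf_le_right)
        index_ne_zero_of_finite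
    set k := cidx (A ⊓ Q) A₁
    set k' := cidx (A₁ ⊓ Q) A
    have hk : k ^ 2 ≤ a * k' := by
      refine (hsq β (A ⊓ Q) (inf_le_right.trans hQβ)
        ((imgElem_of_elem (hel α) _).mono inf_le_left le_rfl)).trans ?_
      refine (hsplit A₁ (A ⊓ Q)).trans ?_
      rw [ha₁]
      exact Nat.mul_le_mul_left _ (relIndex_le_of_le_left (centralizer_le (show ((A ⊓ Q : Subgroup G) : Set G) ⊆ A from
        fun x hx => hx.1)) index_ne_zero_of_finite)
    have hk' : k' ^ 2 ≤ a * k := by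
      refine (hsq α (A₁ ⊓ Q) (inf_le_right.trans hQα)
        ((imgElem_of_elem (hel β) _).mono inf_le_left le_rfl)).trans ?_
      refine (hsplit A (A₁ ⊓ Q)).trans ?_
      exact Nat.mul_le_mul_left _ (relIndex_le_of_le_left (centralizer_le (show ((A₁ ⊓ Q : Subgroup G) : Set G) ⊆ A₁ from
        fun x hx => hx.1)) index_ne_zero_of_finite)
    have hkpos : 0 < k * k' := Nat.mul_pos (cidx_pos _ _) (cidx_pos _ _)
    have hkk : k * k' ≤ a ^ 2 := by
      refine Nat.le_of_mul_le_mul_left ?_ hkpos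
      calc k * k' * (k * k') = k ^ 2 * k' ^ 2 := by ring
        _ ≤ (a * k') * (a * k) := Nat.mul_le_mul hk hk'
        _ = k * k' * a ^ 2 := by ring
    have ha1 : a = 1 := by
      have hapos : 0 < a := Nat.pos_of_ne_zero index_ne_zero_of_finite
      by_contra hne
      have hlt : a ^ 2 < (a ^ 2) ^ 2 := by
        rw [← pow_mul]
        exact Nat.pow_lt_pow_right (by omega) (by norm_num)
      exact absurd (hbd.trans hkk) (not_le.2 hlt)
    exact relIndex_eq_one.1 ha1
  obtain ⟨β, hαβ, hβ⟩ := hW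
  let S : Bool × G → Set G := fun v => {x | ∃ γ, Adj M γ v ∧ x ∈ Zv γ}
  -- the span of the neighbours is normal
  have hnorm : ∀ v : Bool × G, Hv v ≤ normalizer (closure (S v) : Set G) := by
    intro v g hg
    obtain ⟨h, rfl⟩ : ∃ h, g = v.2 * h * v.2⁻¹ := ⟨v.2⁻¹ * g * v.2, by group⟩
    have hh : h ∈ M v.1 := by simpa [mul_assoc] using mem_conjS.1 hg
    have hle : ∀ h ∈ M v.1, ∀ x ∈ closure (S v),
        v.2 * h * v.2⁻¹ * x * (v.2 * h * v.2⁻¹)⁻¹ ∈ closure (S v) := by
      intro h hh x hx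
      have hsub : closure (S v) ≤ (closure (S v)).comap (MulAut.conj (v.2 * h * v.2⁻¹)).toMonoidHom := by
        refine (closure_le _).2 ?_
        rintro y ⟨γ, ⟨h1, a, ha, c, hc, h2⟩, hy⟩
        refine subset_closure ⟨(γ.1, v.2 * h * v.2⁻¹ * γ.2),
          ⟨h1, a, ha, h * c, mul_mem hh hc, ?_⟩, ?_⟩
        · show v.2 * h * v.2⁻¹ * γ.2 * a = v.2 * (h * c)
          rw [mul_assoc _ γ.2, h2]; group
        · show _ ∈ conjS (v.2 * h * v.2⁻¹ * γ.2) (Zs γ.1)
          rw [← conjS_conjS]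
          exact mem_map_of_mem _ hy
      exact hsub hx
    rw [mem_normalizer_iff]
    refine fun x => ⟨hle h hh x, fun hx => ?_⟩
    have := hle h⁻¹ (inv_mem hh) _ hx
    simpa [mul_assoc] using this
  have hSel : ∀ v : Bool × G, Cfsg.IsElementaryAbelian 2 (closure (S v)) := by
    intro v
    have h := Subgroup.isMulCommutative_closure (k := S v) (by
      rintro u ⟨γ, hγ, hu⟩ w ⟨γ', hγ', hw⟩
      exact hcomm 1 (by omega) γ γ' ⟨v, hγ, γ', hγ'.symm, rfl⟩ u hu w hw)
    refine ⟨h, fun a ha => ?_⟩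
    induction ha using Subgroup.closure_induction with
    | mem x hx => obtain ⟨γ, -, hxγ⟩ := hx; exact (hel γ).2 x hxγ
    | one => exact one_pow _
    | mul x y hx hy ihx ihy =>
      rw [(show Commute x y from congrArg Subtype.val (h.is_comm.comm ⟨x, hx⟩ ⟨y, hy⟩)).mul_pow, ihx,
        ihy, one_mul]
    | inv x _ ihx => rw [inv_pow, ihx, inv_one]
  have hSQ : ∀ v : Bool × G, ∀ A ≤ Qv v, ImgElem A (closure (S v)) →
      cidx A (closure (S v)) ^ 2 ≤ cidx (closure (S v)) A := by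
    intro v A hA himg
    haveI := Fintype.ofFinite (Bool × G)
    classical
    let s : Finset (Bool × G) := Finset.univ.filter fun γ => Adj M γ v
    have heq : closure (S v) = ⨆ γ ∈ s, Zv γ := by
      refine le_antisymm ((closure_le _).2 ?_) (iSup₂_le fun γ hγ x hx => ?_)
      · rintro x ⟨γ, hγ, hx⟩
        exact (le_iSup₂ (f := fun γ (_ : γ ∈ s) => Zv γ) γ (Finset.mem_filter.2 ⟨Finset.mem_univ _, hγ⟩)) hx
      · exact subset_closure ⟨γ, (Finset.mem_filter.1 hγ).2, hx⟩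
    rw [heq] at himg ⊢
    refine square_closure Zv A s (fun γ hγ => himg.mono le_rfl (le_iSup₂ (f := fun γ (_ : γ ∈ s) => Zv γ) γ hγ)) ?_
    intro γ hγ K hKA hK
    exact hsq γ K (hKA.trans (hA.trans (P.q_le_adj (Finset.mem_filter.1 hγ).2.symm))) hK
  obtain ⟨δ, hβδ, hδ⟩ := walk_succ_right.1 hβ
  obtain ⟨η, hβη, hη⟩ := hβ
  have hβ' : Walk M (r + 1) β α' := ⟨η, hβη, hη⟩
  set W := closure (S β) with hWdef
  set V := closure (S α') with hVdef
  have hVQ : V ≤ Qv α' := (closure_le _).2 (by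
    rintro y ⟨γ, hγ, hy⟩
    exact ih 1 (by omega) γ α' ⟨α', hγ, rfl⟩ hy)
  have hWQ : W ≤ Qv β := (closure_le _).2 (by
    rintro y ⟨γ, hγ, hy⟩
    exact ih 1 (by omega) γ β ⟨β, hγ, rfl⟩ hy)
  have hVH : V ≤ Hv β := (closure_le _).2 (by
    rintro y ⟨γ, hγ, hy⟩
    exact hgrp (r + 1) le_rfl γ β (Walk.symm (Walk.append hβ' ⟨γ, hγ.symm, rfl⟩)) hy)
  have hWH : W ≤ Hv α' := (closure_le _).2 (by
    rintro y ⟨γ, hγ, hy⟩
    exact hgrp (r + 1) le_rfl γ α' ⟨β, hγ, hβ'⟩ hy)
  have hWδ : W ≤ Qv δ := (closure_le _).2 (by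
    rintro y ⟨γ, hγ, hy⟩
    exact ih (r + 1) (by omega) γ δ ⟨β, hγ, hβδ⟩ hy)
  have hVη : V ≤ Qv η := (closure_le _).2 (by
    rintro y ⟨γ, hγ, hy⟩
    exact ih (r + 1) (by omega) γ η ⟨α', hγ, hη.symm⟩ hy)
  have hCnorm : ∀ v e : Bool × G, Adj M e v →
      Hv v ⊓ centralizer (closure (S v) : Set G) ≤ normalizer (Qv e : Set G) := by
    intro v e he y hy
    refine (P.vert e).q_norm (P.normalizer_inf_le he ⟨hy.1, ?_⟩)
    have hsub : (Zv e : Set G) ⊆ (closure (S v) : Set G) := fun z hz => subset_closure ⟨e, he, hz⟩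
    exact centralizer_le_normalizer _ (Subgroup.centralizer_le hsub hy.2)
  have k1 := key_vertex (P.vert α') (free_vert P hfree α') (V := V) (W := W) hVQ (hnorm α') (hSel α')
    hWH (hSel β) (hVH.trans (hnorm β)) (P.q_le_adj hδ) (P.vert δ).q_isPGroup hWδ (hCnorm α' δ hδ)
    (hSQ α')
  have k2 := key_vertex (P.vert β) (free_vert P hfree β) (V := W) (W := V) hWQ (hnorm β) (hSel β)
    hVH (hSel α') (hWH.trans (hnorm α')) (P.q_le_adj hβη.symm) (P.vert η).q_isPGroup hVη
    (hCnorm β η hβη.symm) (hSQ β)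
  have hle : W ≤ Qv α' := by
    by_contra h
    exact absurd (k1.2 h) (not_lt.2 k2.1)
  exact fun x hx => hle (subset_closure ⟨α, hαβ, hx⟩)

/-- **No primitive pair of characteristic 2.** -/
theorem false_of_pair : False := P.false_of_z_le (z_le_q P hfree)

end CfsgLib.PrimitivePairTwo
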