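import Cfsg.Agent.PrimitivePairTwo.Section

/-!
# A central section paired with a normal subgroup

If `T` centralizes `E` and `V₁ / E` and acts non-trivially on the chief section `V₁ / E`'s extension,
then `|V₁ : E| ≤ |T : C_T(V₁)|`.
-/

set_option autoImplicit false
set_option linter.style.haveILetI false
set_option linter.unusedSectionVars false

universe u

namespace CfsgLib.PrimitivePairTwo

open Subgroup
open scoped commutatorElement

variable {X : Type u} [Group X] [Finite X]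

theorem comm_mul_right' {v t t' : X} (h : ∀ x : X, Commute ⁅v, t'⁆ x) :
    ⁅v, t * t'⁆ = ⁅v, t⁆ * ⁅v, t'⁆ := by
  have h1 : ⁅v, t * t'⁆ = ⁅v, t⁆ * (t * ⁅v, t'⁆ * t⁻¹) := by
    simp only [commutatorElement_def]; group
  rw [h1, ← (h t).eq, mul_inv_cancel_right]

theorem comm_mul_left' {v v' t : X} (h : ∀ x : X, Commute ⁅v', t⁆ x) :
    ⁅v * v', t⁆ = ⁅v, t⁆ * ⁅v', t⁆ := by
  have h1 : ⁅v * v', t⁆ = v * ⁅v', t⁆ * v⁻¹ * ⁅v, t⁆ := by
    simp only [commutatorElement_def]; group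
  rw [h1, ← (h v).eq, mul_inv_cancel_right, (h _).eq]

/-- Subgroup of index two avoiding a given element of an elementary abelian group. -/
theorem exists_index_two {E : Subgroup X} (hE : Cfsg.IsElementaryAbelian 2 E) {e₁ : X} (he : e₁ ∈ E)
    (h1 : e₁ ≠ 1) : ∃ E₀ : Subgroup X, E₀ ≤ E ∧ e₁ ∉ E₀ ∧ ∀ x ∈ E, x ∈ E₀ ∨ x * e₁ ∈ E₀ := by
  obtain ⟨E₀, ⟨hle, hne⟩, hmax⟩ := (Set.toFinite {H : Subgroup X | H ≤ E ∧ e₁ ∉ H}).exists_maximalFor
    id _ ⟨⊥, bot_le, fun h => h1 (mem_bot.1 h)⟩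
  refine ⟨E₀, hle, hne, fun x hx => or_iff_not_imp_left.2 fun hx0 => ?_⟩
  have hmem : e₁ ∈ E₀ ⊔ zpowers x := by
    by_contra h
    have := hmax ⟨sup_le hle (zpowers_le.2 hx), h⟩ le_sup_left
    exact hx0 (this (mem_sup_right (mem_zpowers x)))
  have hn : zpowers x ≤ normalizer (E₀ : Set X) := by
    refine le_trans (le_centralizer_iff.1 ?_) (centralizer_le_normalizer _)
    intro u hu v hv
    obtain ⟨i, rfl⟩ := mem_zpowers_iff.1 hv
    exact (show Commute x u from congrArg Subtype.val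
      (hE.1.is_comm.comm ⟨x, hx⟩ ⟨u, hle hu⟩)).zpow_left i
  obtain ⟨y, hy, s, hs, hys⟩ := Coprime.exists_mul_of_mem_sup hn hmem
  obtain ⟨i, rfl⟩ := mem_zpowers_iff.1 hs
  have hxx : x * x = 1 := by rw [← sq]; exact hE.2 x hx
  rcases Int.even_or_odd i with ⟨j, rfl⟩ | ⟨j, rfl⟩
  · rw [← two_mul, zpow_mul, zpow_two, hxx, one_zpow, mul_one] at hys
    exact absurd (hys ▸ hy) hne
  · rw [zpow_add, zpow_mul, zpow_two, hxx, one_zpow, one_mul, zpow_one] at hys
    rw [← hys, ← mul_assoc, show x * y = y * x from congrArg Subtype.val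
      (hE.1.is_comm.comm ⟨x, hx⟩ ⟨y, hle hy⟩), mul_assoc, hxx, mul_one]
    exact hy

/-- The pairing bound. -/
theorem card_mul_relIndex_le {V₁ E T : Subgroup X} [V₁.Normal] [E.Normal] [T.Normal]
    (hEl : Cfsg.IsElementaryAbelian 2 E) (hEc : ∀ e ∈ E, ∀ x : X, Commute e x) (hEV : E ≤ V₁)
    (hmin : ∀ A : Subgroup X, A.Normal → E ≤ A → A ≤ V₁ → A = E ∨ A = V₁)
    (hT : T ≤ secC V₁ E) (hne : ¬ T ≤ centralizer (V₁ : Set X)) :
    Nat.card ↥(T ⊓ centralizer (V₁ : Set X)) * E.relIndex V₁ ≤ Nat.card T := by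
  classical
  set K₀ := T ⊓ centralizer (V₁ : Set X) with hK₀
  obtain ⟨t₀, ht₀, v₀, hv₀, hne₀⟩ : ∃ t ∈ T, ∃ v ∈ V₁, ⁅v, t⁆ ≠ 1 := by
    by_contra! h
    exact hne fun t ht v hv => commutatorElement_eq_one_iff_mul_comm.1 (h t ht v hv)
  have hbE : ∀ t ∈ T, ∀ v ∈ V₁, ⁅v, t⁆ ∈ E := fun t ht v hv => mem_secC.1 (hT ht) v hv
  obtain ⟨E₀, hE₀, he₁, htwo⟩ := exists_index_two hEl (hbE t₀ ht₀ v₀ hv₀) hne₀
  let Ann : Subgroup X → Subgroup X := fun T' =>
    { carrier := {v | v ∈ V₁ ∧ ∀ t ∈ T' ⊓ T, ⁅v, t⁆ ∈ E₀}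
      one_mem' := ⟨one_mem _, fun t _ => by rw [commutatorElement_one_left]; exact one_mem _⟩
      mul_mem' := fun {a b} ha hb => ⟨mul_mem ha.1 hb.1, fun t ht => by
        rw [comm_mul_left' fun x => hEc _ (hbE t ht.2 b hb.1) x]
        exact mul_mem (ha.2 t ht) (hb.2 t ht)⟩
      inv_mem' := fun {a} ha => ⟨inv_mem ha.1, fun t ht => by
        have h := comm_mul_left' (v := a) (v' := a⁻¹) (t := t)
          fun x => hEc _ (hbE t ht.2 a⁻¹ (inv_mem ha.1)) x
        rw [mul_inv_cancel, commutatorElement_one_left] at h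
        rw [eq_inv_of_mul_eq_one_right h.symm]
        exact inv_mem (ha.2 t ht)⟩ }
  have key : ∀ n (T' : Subgroup X), Nat.card T' = n → K₀ ≤ T' → T' ≤ T →
      Nat.card K₀ * (Ann T').relIndex V₁ ≤ Nat.card T' := by
    intro n
    induction n using Nat.strong_induction_on with
    | _ n ih =>
    intro T' hn hK hT'
    rcases eq_or_lt_of_le hK with heq | hlt
    · have : Ann T' = V₁ := le_antisymm (fun v hv => hv.1) fun v hv => ⟨hv, fun t ht => by
        rw [commutatorElement_eq_one_iff_mul_comm.2 ((heq.ge ht.1).2 v hv)]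
        exact one_mem _⟩
      rw [this, relIndex_self, mul_one, heq]
    obtain ⟨T₂, ⟨hK₂, hT₂⟩, hmax⟩ := (Set.toFinite {H : Subgroup X | K₀ ≤ H ∧ H < T'}).exists_maximalFor
      id _ ⟨K₀, le_rfl, hlt⟩
    obtain ⟨t, htT', htT₂⟩ := SetLike.exists_of_lt hT₂
    have hgen : T₂ ⊔ zpowers t = T' := by
      by_contra h
      have := hmax ⟨hK₂.trans le_sup_left, lt_of_le_of_ne (sup_le hT₂.le (zpowers_le.2 htT')) h⟩
        le_sup_left
      exact htT₂ (this (mem_sup_right (mem_zpowers t)))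
    have hc2 : 2 * Nat.card T₂ ≤ Nat.card T' := by
      rw [← PLocal.card_mul_relIndex hT₂.le, mul_comm 2]
      refine Nat.mul_le_mul_left _ ?_
      have h0 : T₂.relIndex T' ≠ 0 := index_ne_zero_of_finite
      have h1 : T₂.relIndex T' ≠ 1 := fun h => hT₂.not_ge (relIndex_eq_one.1 h)
      omega
    have hrec := ih _ (hn ▸ lt_of_le_of_ne (card_le_of_le hT₂.le) fun h =>
      hT₂.ne (eq_of_le_of_card_ge hT₂.le h.ge)) T₂ rfl hK₂ (hT₂.le.trans hT')
    let A₁ : Subgroup X := Ann (zpowers t)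
    have hsub : Ann T₂ ⊓ A₁ ≤ Ann T' := by
      intro v hv
      refine ⟨hv.1.1, ?_⟩
      have hle : T' ≤
          { carrier := {s | s ∈ T ∧ ⁅v, s⁆ ∈ E₀}
            one_mem' := ⟨one_mem _, by rw [commutatorElement_one_right]; exact one_mem _⟩
            mul_mem' := fun {a b} ha hb => ⟨mul_mem ha.1 hb.1, by
              rw [comm_mul_right' fun x => hEc _ (hbE b hb.1 v hv.1.1) x]
              exact mul_mem ha.2 hb.2⟩
            inv_mem' := fun {a} ha => ⟨inv_mem ha.1, by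
              have h := comm_mul_right' (v := v) (t := a) (t' := a⁻¹)
                fun x => hEc _ (hbE a⁻¹ (inv_mem ha.1) v hv.1.1) x
              rw [mul_inv_cancel, commutatorElement_one_right] at h
              rw [eq_inv_of_mul_eq_one_right h.symm]
              exact inv_mem ha.2⟩ : Subgroup X } := by
        rw [← hgen]
        exact sup_le (fun s hs => ⟨hT' (hT₂.le hs), hv.1.2 s ⟨hs, hT' (hT₂.le hs)⟩⟩)
          (zpowers_le.2 ⟨hT' htT', hv.2.2 t ⟨mem_zpowers t, hT' htT'⟩⟩)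
      exact fun s hs => (hle hs.1).2
    have hidx : A₁.relIndex (Ann T₂) ≤ 2 := by
      refine Nat.le_of_dvd (by norm_num) (relIndex_dvd_two_iff.2 ?_)
      have htmem : t ∈ zpowers t ⊓ T := ⟨mem_zpowers t, hT' htT'⟩
      by_cases hall : ∀ b ∈ Ann T₂, b ∈ A₁
      · exact ⟨1, one_mem _, fun b hb => Or.inr (hall b hb)⟩
      push Not at hall
      obtain ⟨a, ha, haA⟩ := hall
      refine ⟨a, ha, fun b hb => or_iff_not_imp_right.2 fun hbA => ?_⟩
      have hbad : ∀ b ∈ Ann T₂, b ∉ A₁ → ⁅b, t⁆ * ⁅v₀, t₀⁆ ∈ E₀ := by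
        intro b hb hbA
        rcases htwo _ (hbE t htmem.2 b hb.1) with h | h
        · refine absurd ⟨hb.1, fun s hs => ?_⟩ hbA
          obtain ⟨i, rfl⟩ := mem_zpowers_iff.1 hs.1
          have hle : zpowers t ≤
              { carrier := {s | s ∈ T ∧ ⁅b, s⁆ ∈ E₀}
                one_mem' := ⟨one_mem _, by rw [commutatorElement_one_right]; exact one_mem _⟩
                mul_mem' := fun {a c} ha hc => ⟨mul_mem ha.1 hc.1, by
                  rw [comm_mul_right' fun x => hEc _ (hbE c hc.1 b hb.1) x]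
                  exact mul_mem ha.2 hc.2⟩
                inv_mem' := fun {a} ha => ⟨inv_mem ha.1, by
                  have h := comm_mul_right' (v := b) (t := a) (t' := a⁻¹)
                    fun x => hEc _ (hbE a⁻¹ (inv_mem ha.1) b hb.1) x
                  rw [mul_inv_cancel, commutatorElement_one_right] at h
                  rw [eq_inv_of_mul_eq_one_right h.symm]
                  exact inv_mem ha.2⟩ : Subgroup X } :=
            zpowers_le.2 ⟨htmem.2, h⟩
          exact (hle hs.1).2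
        · exact h
      refine ⟨mul_mem hb.1 ha.1, fun s hs => ?_⟩
      have hprod : ⁅b * a, t⁆ ∈ E₀ := by
        rw [comm_mul_left' fun x => hEc _ (hbE t htmem.2 a ha.1) x]
        have hh := mul_mem (hbad b hb hbA) (hbad a ha haA)
        have he2 : ⁅v₀, t₀⁆ * ⁅v₀, t₀⁆ = 1 := by rw [← sq]; exact hEl.2 _ (hbE t₀ ht₀ v₀ hv₀)
        rwa [(hEc _ (hbE t htmem.2 a ha.1) _).eq, mul_assoc ⁅b, t⁆, ← mul_assoc ⁅v₀, t₀⁆, he2,
          one_mul] at hh
      have hle : zpowers t ≤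
          { carrier := {s | s ∈ T ∧ ⁅b * a, s⁆ ∈ E₀}
            one_mem' := ⟨one_mem _, by rw [commutatorElement_one_right]; exact one_mem _⟩
            mul_mem' := fun {c d} hc hd => ⟨mul_mem hc.1 hd.1, by
              rw [comm_mul_right' fun x => hEc _ (hbE d hd.1 _ (mul_mem hb.1 ha.1)) x]
              exact mul_mem hc.2 hd.2⟩
            inv_mem' := fun {c} hc => ⟨inv_mem hc.1, by
              have h := comm_mul_right' (v := b * a) (t := c) (t' := c⁻¹)
                fun x => hEc _ (hbE c⁻¹ (inv_mem hc.1) _ (mul_mem hb.1 ha.1)) x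
              rw [mul_inv_cancel, commutatorElement_one_right] at h
              rw [eq_inv_of_mul_eq_one_right h.symm]
              exact inv_mem hc.2⟩ : Subgroup X } :=
        zpowers_le.2 ⟨htmem.2, hprod⟩
      exact (hle hs.1).2
    have h12 : (Ann T').relIndex V₁ ≤ 2 * (Ann T₂).relIndex V₁ := by
      refine (relIndex_le_of_le_left hsub index_ne_zero_of_finite).trans ?_
      have hle : Ann T₂ ≤ V₁ := fun v hv => hv.1
      rw [← relIndex_mul_relIndex _ _ V₁ inf_le_left hle, inf_relIndex_left]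
      exact Nat.mul_le_mul_right _ hidx
    calc Nat.card K₀ * (Ann T').relIndex V₁ ≤ Nat.card K₀ * (2 * (Ann T₂).relIndex V₁) :=
          Nat.mul_le_mul_left _ h12
      _ = 2 * (Nat.card K₀ * (Ann T₂).relIndex V₁) := by ring
      _ ≤ 2 * Nat.card T₂ := Nat.mul_le_mul_left _ hrec
      _ ≤ Nat.card T' := hc2
  have hAnn : Ann T = E := by
    have hEA : E ≤ Ann T := fun e he => ⟨hEV he, fun t _ => by
      rw [commutatorElement_eq_one_iff_mul_comm.2 (hEc e he t).eq]; exact one_mem _⟩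
    have hn : (Ann T).Normal := by
      refine ⟨fun v hv x => ⟨(inferInstance : V₁.Normal).conj_mem v hv.1 x, fun t ht => ?_⟩⟩
      have h1 : x⁻¹ * t * x ∈ T := by
        simpa using (inferInstance : T.Normal).conj_mem t ht.1 x⁻¹
      have h2 : ⁅x * v * x⁻¹, t⁆ = x * ⁅v, x⁻¹ * t * x⁆ * x⁻¹ := by
        simp only [commutatorElement_def]; group
      rw [h2, ← (hEc _ (hbE _ h1 v hv.1) x).eq, mul_inv_cancel_right]
      exact hv.2 _ ⟨h1, h1⟩
    rcases hmin _ hn hEA fun v hv => hv.1 with h | h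
    · exact h
    · exact absurd ((h.ge hv₀).2 t₀ ⟨ht₀, ht₀⟩) he₁
  have := key _ T rfl inf_le_left le_rfl
  rwa [hAnn] at this

end CfsgLib.PrimitivePairTwo
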