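import Cfsg.Agent.PrimitivePairTwo.Bound

/-!
# Kernels of sections
-/

set_option autoImplicit false
set_option linter.style.haveILetI false
set_option linter.unusedSectionVars false

universe u

namespace CfsgLib.PrimitivePairTwo

open Subgroup
open scoped commutatorElement

variable {X : Type u} [Group X] [Finite X]

/-- The centralizer of the section `V / N`. -/
abbrev secC (V N : Subgroup X) [N.Normal] : Subgroup X :=
  (centralizer (V.map (QuotientGroup.mk' N) : Set (X ⧸ N))).comap (QuotientGroup.mk' N)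

theorem mem_secC {V N : Subgroup X} [N.Normal] {x : X} :
    x ∈ secC V N ↔ ∀ v ∈ V, ⁅v, x⁆ ∈ N := by
  rw [secC, mem_comap, mem_centralizer_iff]
  constructor
  · intro h v hv
    refine (QuotientGroup.eq_one_iff _).1 ?_
    show QuotientGroup.mk' N ⁅v, x⁆ = 1
    rw [map_commutatorElement, commutatorElement_eq_one_iff_mul_comm]
    exact h _ (mem_map_of_mem _ hv)
  · rintro h _ ⟨v, hv, rfl⟩
    rw [← commutatorElement_eq_one_iff_mul_comm, ← map_commutatorElement]
    exact (QuotientGroup.eq_one_iff _).2 (h v hv)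

theorem centralizer_le_secC (V N : Subgroup X) [N.Normal] : centralizer (V : Set X) ≤ secC V N :=
  fun x hx => mem_secC.2 fun v hv => by
    rw [commutatorElement_eq_one_iff_mul_comm.2 (hx v hv)]; exact one_mem _

theorem secC_le_secC {V M N L : Subgroup X} [N.Normal] [L.Normal] (hMV : M ≤ V) (hNL : N ≤ L) :
    secC V N ≤ secC M L := fun _ hx => mem_secC.2 fun v hv => hNL (mem_secC.1 hx v (hMV hv))

theorem le_secKer {V N : Subgroup X} [V.Normal] [N.Normal] {K : Subgroup X} [hK : K.Normal]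
    (h : ∀ x ∈ K, ∃ n : ℕ, x ^ 2 ^ n ∈ secC V N) : K ≤ secKer V N := by
  haveI : (K.map (QuotientGroup.mk' N)).Normal := hK.map _ (QuotientGroup.mk'_surjective N)
  refine map_le_iff_le_comap.1 (le_ker2 ?_)
  rintro _ ⟨x, hx, rfl⟩
  obtain ⟨n, hn⟩ := h x hx
  exact ⟨n, (map_pow (QuotientGroup.mk' N) x _) ▸ mem_comap.1 hn⟩

theorem secKer_pow {V N : Subgroup X} [V.Normal] [N.Normal] {x : X} (hx : x ∈ secKer V N) :
    ∃ n : ℕ, x ^ 2 ^ n ∈ secC V N := by
  obtain ⟨n, hn⟩ := ker2_pow (mem_comap.1 hx)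
  exact ⟨n, mem_comap.2 ((map_pow (QuotientGroup.mk' N) x _).symm ▸ hn)⟩

theorem secKer_le_secKer {V M N L : Subgroup X} [V.Normal] [M.Normal] [N.Normal] [L.Normal]
    (hMV : M ≤ V) (hNL : N ≤ L) : secKer V N ≤ secKer M L :=
  le_secKer fun _ hx => (secKer_pow hx).imp fun _ h => secC_le_secC hMV hNL h

theorem ker2_le_secKer {V M L : Subgroup X} [V.Normal] [M.Normal] [L.Normal] (hMV : M ≤ V) :
    ker2 V ≤ secKer M L :=
  le_secKer fun _ hx => (ker2_pow hx).imp fun _ h =>
    centralizer_le_secC M L (centralizer_le (show (M : Set X) ⊆ V from hMV) h)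

theorem mem_secC_of_odd {V N : Subgroup X} [V.Normal] [N.Normal] {x : X} (hx : x ∈ secKer V N)
    (ho : Odd (orderOf x)) : x ∈ secC V N :=
  mem_comap.2 (mem_centralizer_of_odd (mem_comap.1 hx)
    (ho.of_dvd_nat (orderOf_map_dvd _ x)))

/-- A chief section has no `2`-kernel. -/
theorem secKer_eq_of_minimal {M N : Subgroup X} [M.Normal] [N.Normal] (hM : IsPGroup 2 M)
    (hNM : N ≤ M)
    (hmin : ∀ A : Subgroup X, A.Normal → N ≤ A → A ≤ M → A = N ∨ A = M) :
    secKer M N = secC M N := by
  have h := ker2_eq_of_minimal (V := M.map (QuotientGroup.mk' N)) (hM.map _) fun A hA hAn hA0 => by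
    haveI := hAn
    have hle : A.comap (QuotientGroup.mk' N) ≤ M := by
      refine (comap_mono hA).trans ?_
      rw [comap_map_eq, QuotientGroup.ker_mk']
      exact sup_le le_rfl hNM
    rcases hmin (A.comap (QuotientGroup.mk' N)) inferInstance
      (by intro x hx; rw [mem_comap, show QuotientGroup.mk' N x = 1 from (QuotientGroup.eq_one_iff x).2 hx]
          exact one_mem A) hle with h | h
    · refine absurd (le_bot_iff.1 fun z hz => ?_) hA0
      obtain ⟨x, rfl⟩ := QuotientGroup.mk'_surjective N z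
      exact mem_bot.2 ((QuotientGroup.eq_one_iff x).2 (h.le (mem_comap.2 hz)))
    · rw [← h, map_comap_eq_self_of_surjective (QuotientGroup.mk'_surjective N)]
  show (ker2 (M.map (QuotientGroup.mk' N))).comap _ = _
  rw [h]

/-- An element of square zero that is central modulo the kernel of a chief section lies in it. -/
theorem mem_secC_of_central {M N : Subgroup X} [M.Normal] [N.Normal]
    (hred : secKer M N = secC M N) {w : X} (hw : w ^ 2 ∈ secC M N)
    (hc : ∀ x : X, ⁅x, w⁆ ∈ secC M N) : w ∈ secC M N := by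
  haveI : (secC M N).Normal := hred ▸ (inferInstance : (secKer M N).Normal)
  let π := QuotientGroup.mk' (secC M N)
  have hcen : π w ∈ center (X ⧸ secC M N) := by
    rw [mem_center_iff]
    intro z
    obtain ⟨x, rfl⟩ := QuotientGroup.mk'_surjective (secC M N) z
    rw [← commutatorElement_eq_one_iff_mul_comm, ← map_commutatorElement]
    exact (QuotientGroup.eq_one_iff _).2 (hc x)
  haveI : (zpowers (π w)).Normal := ⟨fun z hz g => by
    obtain ⟨i, rfl⟩ := mem_zpowers_iff.1 hz
    rw [(mem_center_iff.1 (zpow_mem hcen i) g), mul_inv_cancel_right]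
    exact zpow_mem (mem_zpowers _) i⟩
  rw [← hred]
  refine le_secKer (K := (zpowers (π w)).comap π) (fun x hx => ⟨1, ?_⟩) (mem_comap.2 (mem_zpowers _))
  obtain ⟨i, hi⟩ := mem_zpowers_iff.1 (mem_comap.1 hx)
  refine (QuotientGroup.eq_one_iff _).1 ?_
  show π (x ^ 2 ^ 1) = 1
  have h2 : π w ^ (2 : ℤ) = 1 := by
    rw [zpow_ofNat, ← map_pow]
    exact (QuotientGroup.eq_one_iff _).2 hw
  rw [pow_one, map_pow, ← hi, ← zpow_natCast, ← zpow_mul, mul_comm, zpow_mul,
    show ((2 : ℕ) : ℤ) = 2 from rfl, h2, one_zpow]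

end CfsgLib.PrimitivePairTwo
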