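import Cfsg.Agent.PrimitivePairTwo.Key
import Cfsg.Agent.PrimitiveStable.Graph
import Cfsg.Agent.PLocal.Stability
import Cfsg.Agent.Solvable.Frattini

/-!
# The local lemmas of the amalgam argument

Indices are written `(centralizer B).relIndex A`, that is `|A : C_A(B)|`.
-/

set_option autoImplicit false
set_option linter.style.haveILetI false
set_option linter.unusedSectionVars false

universe u

namespace CfsgLib.PrimitivePairTwo

open Subgroup PrimitiveStable
open scoped commutatorElement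

/-- `|A : C_A(B)|`. -/
noncomputable abbrev cidx {G : Type u} [Group G] (A B : Subgroup G) : ℕ :=
  (centralizer (B : Set G)).relIndex A

variable {G : Type u} [Group G] [Finite G]

theorem cidx_pos (A B : Subgroup G) : 0 < cidx A B := Nat.pos_of_ne_zero index_ne_zero_of_finite

/-- The image of `A` in the automorphisms of `B` is elementary abelian. -/
def ImgElem (A B : Subgroup G) : Prop :=
  (∀ a ∈ A, a ^ 2 ∈ centralizer (B : Set G)) ∧ ∀ a ∈ A, ∀ b ∈ A, ⁅a, b⁆ ∈ centralizer (B : Set G)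

theorem ImgElem.mono {A A' B B' : Subgroup G} (h : ImgElem A B) (hA : A' ≤ A) (hB : B' ≤ B) :
    ImgElem A' B' :=
  ⟨fun a ha => centralizer_le hB (h.1 a (hA ha)),
    fun a ha b hb => centralizer_le hB (h.2 a (hA ha) b (hA hb))⟩

theorem imgElem_of_elem {A : Subgroup G} (hA : Cfsg.IsElementaryAbelian 2 A) (B : Subgroup G) :
    ImgElem A B :=
  ⟨fun a ha => by rw [hA.2 a ha]; exact one_mem _, fun a ha b hb => by
    rw [commutatorElement_eq_one_iff_mul_comm.2
      (congrArg Subtype.val (hA.1.is_comm.comm ⟨a, ha⟩ ⟨b, hb⟩))]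
    exact one_mem _⟩

theorem isElementaryAbelian_of_le {A B : Subgroup G} (h : A ≤ B) (hB : Cfsg.IsElementaryAbelian 2 B) :
    Cfsg.IsElementaryAbelian 2 A :=
  ⟨⟨⟨fun a b => Subtype.ext (congrArg Subtype.val
    (hB.1.is_comm.comm ⟨a, h a.2⟩ ⟨b, h b.2⟩) :)⟩⟩, fun a ha => hB.2 a (h ha)⟩

theorem isElementaryAbelian_subgroupOf {A : Subgroup G} (hA : Cfsg.IsElementaryAbelian 2 A)
    (H : Subgroup G) : Cfsg.IsElementaryAbelian 2 (A.subgroupOf H) :=
  ⟨⟨⟨fun a b => Subtype.ext (Subtype.ext (congrArg Subtype.val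
    (hA.1.is_comm.comm ⟨(a : H), a.2⟩ ⟨(b : H), b.2⟩) :))⟩⟩, fun a ha => Subtype.ext (hA.2 _ ha)⟩

/-- Additivity of the square property over generators of `V`. -/
theorem square_closure {ι : Type*} (Z : ι → Subgroup G) (A : Subgroup G) (s : Finset ι)
    (hel : ∀ i ∈ s, ImgElem A (Z i))
    (hsq : ∀ i ∈ s, ∀ K : Subgroup G, K ≤ A → ImgElem K (Z i) → cidx K (Z i) ^ 2 ≤ cidx (Z i) K) :
    cidx A (⨆ i ∈ s, Z i) ^ 2 ≤ cidx (⨆ i ∈ s, Z i) A := by
  classical
  induction s using Finset.induction_on with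
  | empty =>
    simp only [Finset.notMem_empty, iSup_false, iSup_bot]
    have h : cidx A (⊥ : Subgroup G) = 1 := relIndex_eq_one.2 fun a _ => mem_centralizer_iff.2 fun v hv => by
      rw [mem_bot.1 hv, one_mul, mul_one]
    rw [h, one_pow]
    exact cidx_pos _ _
  | @insert j s hj ih =>
    have hrec := ih (fun i hi => hel i (Finset.mem_insert_of_mem hi))
      fun i hi => hsq i (Finset.mem_insert_of_mem hi)
    rw [Finset.iSup_insert]
    set V := ⨆ i ∈ s, Z i
    set V' := Z j ⊔ V with hV'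
    set K := A ⊓ centralizer (V : Set G) with hK
    have h1 : cidx A V' = cidx K (Z j) * cidx A V := by
      have hc : A ⊓ centralizer (V' : Set G) = K ⊓ centralizer (Z j : Set G) := by
        refine le_antisymm (fun x hx => ⟨⟨hx.1, centralizer_le (show (V : Set G) ⊆ (V' : Set G) from
          (le_sup_right : V ≤ V')) hx.2⟩, centralizer_le (show (Z j : Set G) ⊆ (V' : Set G) from
          (le_sup_left : Z j ≤ V')) hx.2⟩) fun x hx => ⟨hx.1.1, fun v hv => ?_⟩
        have : V' ≤ centralizer ({x} : Set G) := sup_le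
          (fun u hu => mem_centralizer_singleton_iff.2 (hx.2 u hu))
          (fun u hu => mem_centralizer_singleton_iff.2 (hx.1.2 u hu))
        exact mem_centralizer_singleton_iff.1 (this hv)
      rw [cidx, ← inf_relIndex_left, hc, cidx, cidx, ← inf_relIndex_left K,
        ← inf_relIndex_left A (centralizer (V : Set G))]
      exact (relIndex_mul_relIndex _ _ _ inf_le_left inf_le_left).symm
    have hsqj := hsq j (Finset.mem_insert_self j s) K inf_le_left
      ((hel j (Finset.mem_insert_self j s)).mono inf_le_left le_rfl)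
    have h2 : cidx (Z j) K * cidx V A ≤ cidx V' A := by
      set M := V' ⊓ centralizer (K : Set G) with hM
      have hVM : V ≤ M := le_inf le_sup_right (le_centralizer_iff.1 inf_le_right)
      have hAM : V' ⊓ centralizer (A : Set G) ≤ M :=
        inf_le_inf_left V' (centralizer_le (show (K : Set G) ⊆ A from fun x hx => hx.1))
      have e1 : cidx (Z j) K ≤ M.relIndex V' := by
        rw [hM, inf_relIndex_left]
        exact relIndex_le_of_le_right le_sup_left index_ne_zero_of_finite
      have e2 : cidx V A ≤ (V' ⊓ centralizer (A : Set G)).relIndex M :=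
        (relIndex_le_of_le_left inf_le_right index_ne_zero_of_finite).trans
          (relIndex_le_of_le_right hVM index_ne_zero_of_finite)
      calc cidx (Z j) K * cidx V A ≤ M.relIndex V' * (V' ⊓ centralizer (A : Set G)).relIndex M :=
            Nat.mul_le_mul e1 e2
        _ = cidx V' A := by
            rw [mul_comm, relIndex_mul_relIndex _ _ _ hAM inf_le_left, cidx, inf_relIndex_left]
    rw [h1, mul_pow]
    exact (Nat.mul_le_mul hsqj hrec).trans h2

variable [hp : Fact (Nat.Prime 2)] {H Q Z : Subgroup G}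

theorem square_z (hv : Vertex 2 H Q Z) (hfree : Free H) (hZ : Cfsg.IsElementaryAbelian 2 Z)
    {A : Subgroup G} (hAH : A ≤ H) (hA : ImgElem A Z) : cidx A Z ^ 2 ≤ cidx Z A := by
  have hZH := hv.z_le
  set V := Z.subgroupOf H
  haveI hVn : V.Normal :=
    ⟨fun z hz g => (mem_normalizer_iff.1 (hv.zn g.2) (z : G)).1 hz⟩
  have hVp : IsPGroup 2 V := fun v => ⟨1, Subtype.ext (Subtype.ext (by simpa using hZ.2 _ v.2))⟩
  have hmin : ∀ B : Subgroup H, B ≤ V → B.Normal → B ≠ ⊥ → B = V := by
    intro B hB hBn hB0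
    have h := hv.zmin (B.map H.subtype) (map_le_iff_le_comap.2 hB)
      (fun h => hB0 ((Subgroup.map_eq_bot_iff_of_injective _ H.subtype_injective).1 h)) fun g hg => by
        rw [mem_normalizer_iff]
        intro y
        constructor
        · rintro ⟨a, ha, rfl⟩
          exact ⟨⟨g, hg⟩ * a * ⟨g, hg⟩⁻¹, hBn.conj_mem a ha _, rfl⟩
        · rintro ⟨a, ha, hay⟩
          refine ⟨⟨g, hg⟩⁻¹ * a * ⟨g, hg⟩, by simpa using hBn.conj_mem a ha ⟨g, hg⟩⁻¹, ?_⟩
          show g⁻¹ * (H.subtype a) * g = y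
          rw [hay]; group
    rw [← comap_map_eq_self_of_injective H.subtype_injective B]
    exact congrArg _ h
  have hcZ := centralizer_subgroupOf hZH
  have h := square hfree V (isElementaryAbelian_subgroupOf hZ H) (ker2_eq_of_minimal hVp hmin)
    (A.subgroupOf H) (fun a ha => by rw [hcZ]; exact hA.1 _ ha)
    (fun a ha b hb => by rw [hcZ]; exact hA.2 _ ha _ hb)
  rw [hcZ, centralizer_subgroupOf hAH, relIndex_subgroupOf hAH,
    show V ⊓ (centralizer (A : Set G)).subgroupOf H = (Z ⊓ centralizer (A : Set G)).subgroupOf H from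
      (comap_inf ..).symm, relIndex_subgroupOf hZH, inf_relIndex_left] at h
  exact h

theorem key_vertex (hv : Vertex 2 H Q Z) (hfree : Free H) {V W X : Subgroup G} (hVQ : V ≤ Q)
    (hVn : H ≤ normalizer (V : Set G)) (hV : Cfsg.IsElementaryAbelian 2 V)
    (hWH : W ≤ H) (hW : Cfsg.IsElementaryAbelian 2 W) (hVW : V ≤ normalizer (W : Set G))
    (hXH : X ≤ H) (hX : IsPGroup 2 X) (hWX : W ≤ X)
    (hCX : H ⊓ centralizer (V : Set G) ≤ normalizer (X : Set G))
    (hSQ : ∀ A ≤ Q, ImgElem A V → cidx A V ^ 2 ≤ cidx V A) :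
    cidx W V ≤ cidx V W ∧ (¬ W ≤ Q → cidx W V < cidx V W) := by
  have hVH : V ≤ H := hVQ.trans hv.q_le
  haveI : (V.subgroupOf H).Normal :=
    ⟨fun z hz g => (mem_normalizer_iff.1 (hVn g.2) (z : G)).1 hz⟩
  have hQeq : Q.subgroupOf H = Cfsg.pCore 2 H := by
    rw [hv.hQ]; exact comap_map_eq_self_of_injective H.subtype_injective _
  haveI : (Q.subgroupOf H).Normal := by rw [hQeq]; infer_instance
  have hcV := centralizer_subgroupOf hVH
  have hVp : IsPGroup 2 (V.subgroupOf H) :=
    (hv.q_isPGroup.to_le hVQ).comap_of_injective H.subtype H.subtype_injective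
  have hW0 : W.subgroupOf H ⊓ ker2 (V.subgroupOf H) ≤ Q.subgroupOf H := by
    intro x hx
    rw [hQeq]
    refine mem_pCore_of_unipotent hVp (hX.comap_of_injective H.subtype H.subtype_injective) ?_
      (hWX hx.1) hx.2
    intro c hc
    rw [hcV] at hc
    rw [mem_normalizer_iff]
    intro y
    exact mem_normalizer_iff.1 (hCX ⟨c.2, hc⟩) (y : G)
  have hquad : ∀ v ∈ V.subgroupOf H, ∀ w ∈ W.subgroupOf H, ∀ u ∈ W.subgroupOf H,
      Commute ⁅v, w⁆ u := by
    intro v hv' w hw u hu
    have hm : ⁅(v : G), (w : G)⁆ ∈ W := by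
      rw [commutatorElement_def]
      exact W.mul_mem ((mem_normalizer_iff.1 (hVW hv') _).1 hw) (W.inv_mem hw)
    have e : ⁅(v : G), (w : G)⁆ * u = u * ⁅(v : G), (w : G)⁆ :=
      congrArg Subtype.val (hW.1.is_comm.comm ⟨_, hm⟩ ⟨(u : G), hu⟩)
    exact Subtype.ext e
  have hSQ' : SQ (Q.subgroupOf H) (V.subgroupOf H) := by
    intro A hA hsq hcom
    rw [hcV] at hsq hcom ⊢
    have hA' : (A.map H.subtype).subgroupOf H = A :=
      comap_map_eq_self_of_injective H.subtype_injective A
    have h1 := hSQ (A.map H.subtype) (map_le_iff_le_comap.2 hA) ⟨by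
      rintro _ ⟨a, ha, rfl⟩
      rw [← map_pow]; exact hsq a ha, by
      rintro _ ⟨a, ha, rfl⟩ _ ⟨b, hb, rfl⟩
      rw [← map_commutatorElement]; exact hcom a ha b hb⟩
    rw [← hA', centralizer_subgroupOf (map_subtype_le A), relIndex_subgroupOf (map_subtype_le A),
      show V.subgroupOf H ⊓ (centralizer (A.map H.subtype : Set G)).subgroupOf H =
        (V ⊓ centralizer (A.map H.subtype : Set G)).subgroupOf H from (comap_inf ..).symm,
      relIndex_subgroupOf hVH, inf_relIndex_left]
    exact h1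
  haveI : (Q.subgroupOf H).Normal := by rw [hQeq]; infer_instance
  obtain ⟨h1, h2⟩ := key (N := Q.subgroupOf H) hfree (isElementaryAbelian_subgroupOf hV H) (isElementaryAbelian_subgroupOf hW H)
    hquad (hv.q_isPGroup.comap_of_injective H.subtype H.subtype_injective) hSQ' hW0
  have hr : (centralizer (V.subgroupOf H : Set H)).relIndex (W.subgroupOf H) = cidx W V := by
    rw [hcV, relIndex_subgroupOf hWH]
  have hl : (V.subgroupOf H ⊓ centralizer (W.subgroupOf H : Set H)).relIndex (V.subgroupOf H) =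
      cidx V W := by
    rw [inf_relIndex_left, centralizer_subgroupOf hWH, relIndex_subgroupOf hVH]
  rw [hr, hl] at h1 h2
  refine ⟨h1, fun hWQ => h2 fun hle => hWQ fun w hw => ?_⟩
  exact hW0 (show (⟨w, hWH hw⟩ : H) ∈ _ from ⟨hw, hle hw⟩)

theorem adjacent_bound (hv : Vertex 2 H Q Z) (hfree : Free H) {A : Subgroup G} (hAH : A ≤ H)
    (hA : Cfsg.IsElementaryAbelian 2 A) (hQA : Q ≤ normalizer (A : Set G)) :
    ∃ h ∈ H, (Q.relIndex A ^ 2) ^ 2 ≤
      cidx (A ⊓ Q) (conjS h A) * cidx (conjS h A ⊓ Q) A := by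
  set Qc := Cfsg.pCore 2 H with hQc
  have hQc2 : IsPGroup 2 Qc := PLocal.isPGroup_pCore 2 H
  set Φ := (frattini Qc).map Qc.subtype with hΦ
  haveI : Φ.Normal := PLocal.normal_map_subtype Qc (frattini Qc)
  have hΦQ : Φ ≤ Qc := map_subtype_le _
  let π := QuotientGroup.mk' Φ
  have hQeq : Q.subgroupOf H = Qc := by
    rw [hv.hQ]; exact comap_map_eq_self_of_injective H.subtype_injective _
  set Ad := A.subgroupOf H with hAd
  set U₀ := Ad ⊓ Qc
  -- the module `Q / Φ`
  have hVel : Cfsg.IsElementaryAbelian 2 (Qc.map π) := by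
    refine ⟨⟨⟨?_⟩⟩, ?_⟩
    · rintro ⟨_, a, ha, rfl⟩ ⟨_, b, hb, rfl⟩
      refine Subtype.ext ?_
      show π a * π b = π b * π a
      rw [← commutatorElement_eq_one_iff_mul_comm, ← map_commutatorElement]
      refine (QuotientGroup.eq_one_iff _).2 ⟨⁅(⟨a, ha⟩ : Qc), ⟨b, hb⟩⁆, ?_, rfl⟩
      exact Solvable.commutator_le_frattini hQc2
        (commutator_mem_commutator (mem_top _) (mem_top _))
    · rintro _ ⟨a, ha, rfl⟩
      rw [← map_pow]
      exact (QuotientGroup.eq_one_iff _).2
        ⟨(⟨a, ha⟩ : Qc) ^ 2, Solvable.pow_mem_frattini hQc2 _, rfl⟩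
  have hker : (ker2 (Qc.map π)).comap π = Qc := by
    refine le_antisymm ?_ ?_
    · refine PLocal.le_pCore (N := secKer Qc Φ) ?_
      intro x
      obtain ⟨n, hn⟩ := secKer_pow x.2
      obtain ⟨m, hm⟩ := PLocal.isPGroup_sectionKernel_frattini hv.self ⟨_, hn⟩
      refine ⟨n + m, Subtype.ext ?_⟩
      rw [SubgroupClass.coe_pow, pow_add, pow_mul, OneMemClass.coe_one]
      exact congrArg Subtype.val hm
    · intro x hx
      refine mem_comap.2 (centralizer_le_ker2 _ ?_)
      exact fun v hv' => congrArg Subtype.val (hVel.1.is_comm.comm ⟨v, hv'⟩ ⟨π x, mem_map_of_mem _ hx⟩)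
  have hAel := isElementaryAbelian_map π (isElementaryAbelian_subgroupOf hA H)
  obtain ⟨g, hg⟩ := commutator_bound (hfree.quotient Φ) (W := Ad.map π) (U := U₀.map π) hVel hAel
    (map_mono inf_le_right)
    (by
      rintro _ ⟨u, hu, rfl⟩ _ ⟨a, ha, rfl⟩
      rw [← map_mul, ← map_mul]
      have e : (a : G) * u = u * a :=
        congrArg Subtype.val (hA.1.is_comm.comm ⟨(a : G), ha⟩ ⟨(u : G), hu.1⟩)
      exact congrArg π (Subtype.ext e))
    (by
      rintro _ ⟨v, hv', rfl⟩ _ ⟨a, ha, rfl⟩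
      rw [← map_commutatorElement]
      refine mem_map_of_mem π ⟨?_, ?_⟩
      · show (v : G) * a * (v : G)⁻¹ * (a : G)⁻¹ ∈ A
        exact A.mul_mem ((mem_normalizer_iff.1 (hQA (hQeq.ge hv' : v ∈ Q.subgroupOf H)) _).1 ha)
          (A.inv_mem ha)
      · rw [commutatorElement_def, mul_assoc, mul_assoc, ← mul_assoc a]
        exact Qc.mul_mem hv' ((inferInstance : Qc.Normal).conj_mem _ (Qc.inv_mem hv') a))
  obtain ⟨h, rfl⟩ := QuotientGroup.mk'_surjective Φ g
  have hconjmap : ∀ S : Subgroup H, (S.map π).map (MulAut.conj (π h)).toMonoidHom =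
      (S.map (MulAut.conj h).toMonoidHom).map π := by
    intro S
    rw [map_map, map_map]
    congr 1
  have hconjH : ∀ S : Subgroup G, S ≤ H →
      (S.subgroupOf H).map (MulAut.conj h).toMonoidHom = (conjS (h : G) S).subgroupOf H := by
    intro S hS
    ext x
    rw [Subgroup.mem_map_equiv, mem_subgroupOf, mem_subgroupOf, mem_conjS]
    simp [mul_assoc]
  have hAH' : conjS (h : G) A ≤ H := fun x hx => by
    have := H.mul_mem (H.mul_mem h.2 (hAH (mem_conjS.1 hx))) (H.inv_mem h.2)
    simpa [mul_assoc] using this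
  have hU₁ : U₀.map (MulAut.conj h).toMonoidHom = (conjS (h : G) A ⊓ Q).subgroupOf H := by
    rw [map_inf_eq _ _ _ (MulAut.conj h).injective, hconjH A hAH,
      show Qc.map (MulAut.conj h).toMonoidHom = Qc from
        (mem_normalizer_iff_map_conj_eq).1 (normalizer_eq_top (H := Qc) ▸ mem_top h), ← hQeq]
    rfl
  have hU₀ : U₀ = (A ⊓ Q).subgroupOf H := (congrArg (Ad ⊓ ·) hQeq.symm).trans (comap_inf ..).symm
  refine ⟨h, h.2, ?_⟩
  have hlow : (ker2 (Qc.map π)).relIndex (Ad.map π) = Q.relIndex A := by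
    rw [← relIndex_comap, hker, ← hQeq, relIndex_subgroupOf hAH]
  rw [hlow] at hg
  refine hg.trans (Nat.mul_le_mul ?_ ?_)
  · rw [inf_relIndex_left, ← relIndex_comap, hconjmap]
    refine (relIndex_le_of_le_left (H := centralizer (Ad.map (MulAut.conj h).toMonoidHom : Set H)) ?_
      index_ne_zero_of_finite).trans (le_of_eq ?_)
    · intro x hx
      rintro _ ⟨y, hy, rfl⟩
      rw [← map_mul, ← map_mul, hx y hy]
    · rw [hconjH A hAH, centralizer_subgroupOf hAH', hU₀,
        relIndex_subgroupOf (inf_le_left.trans hAH)]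
  · rw [hconjmap, inf_relIndex_left, ← relIndex_comap, hU₁]
    refine (relIndex_le_of_le_left (H := centralizer (Ad : Set H)) ?_
      index_ne_zero_of_finite).trans (le_of_eq ?_)
    · intro x hx
      rintro _ ⟨y, hy, rfl⟩
      rw [← map_mul, ← map_mul, hx y hy]
    · rw [centralizer_subgroupOf hAH, relIndex_subgroupOf (inf_le_left.trans hAH')]

end CfsgLib.PrimitivePairTwo
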